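/-
A real structure on a four-dimensional unitary space: vectors, elements, frames.
-/
import Cfsg.Agent.Lib.ClassicalMax.UnitSubFour.Base
import Cfsg.Agent.Lib.ClassicalMax.OrthNondeg
set_option autoImplicit false
set_option linter.unusedSectionVars false

namespace CfsgLib.ClassicalMax.UnitOrth4

open Matrix Cfsg.Geo CfsgLib.ClassicalMax CfsgLib.ClassicalMax.Unit

variable {ι : Type} [Fintype ι] [DecidableEq ι] {F : Type*} [Field F] [Fintype F] [DecidableEq F]
  {σ : F ≃+* F} {f : (ι → F) → (ι → F) → F}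

/-- A unitary form with real Gram matrix in dimension four, odd characteristic. -/
structure OStd (σ : F ≃+* F) (f : (ι → F) → (ι → F) → F) : Prop where
  hf : IsUnitaryForm σ f
  h2 : (2 : F) ≠ 0
  hn : Fintype.card ι = 4
  hreal : ∀ i j : ι, σ (f (Pi.single i 1) (Pi.single j 1)) = f (Pi.single i 1) (Pi.single j 1)
  hq : 5 ≤ Nat.card (fixedField σ)

/-- Coordinatewise conjugation. -/
def cj (σ : F ≃+* F) (z : ι → F) : ι → F := fun i => σ (z i)

lemma cj_add (z w : ι → F) : cj σ (z + w) = cj σ z + cj σ w := funext fun _ => map_add σ _ _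
lemma cj_sub (z w : ι → F) : cj σ (z - w) = cj σ z - cj σ w := funext fun _ => map_sub σ _ _
lemma cj_smul (c : F) (z : ι → F) : cj σ (c • z) = σ c • cj σ z := funext fun _ => map_mul σ _ _
lemma cj_zero : cj σ (0 : ι → F) = 0 := funext fun _ => map_zero σ
lemma cj_single (i : ι) : cj σ (Pi.single i (1 : F)) = Pi.single i 1 :=
  funext fun k => by by_cases h : k = i <;> simp [cj, h]

variable (O : OStd σ f)
include O

lemma cj_cj (z : ι → F) : cj σ (cj σ z) = z := funext fun _ => O.hf.involutive _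

lemma cj_f (z w : ι → F) : σ (f z w) = f (cj σ z) (cj σ w) := by
  have hf := O.hf
  have right : ∀ (i : ι) (w : ι → F), f (Pi.single i 1) w
      = ∑ j, σ (w j) * f (Pi.single i 1) (Pi.single j 1) := by
    intro i w
    rw [hf.herm]
    conv_lhs => rw [← formL_apply hf (Pi.single i (1 : F)), pi_eq_sum_univ' w, map_sum, map_sum]
    refine Finset.sum_congr rfl fun j _ => ?_
    rw [map_smul, formL_apply, smul_eq_mul, map_mul, ← hf.herm]
  have key : ∀ z w : ι → F, f z w = ∑ i, ∑ j, z i * σ (w j) * f (Pi.single i 1) (Pi.single j 1) := by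
    intro z w
    conv_lhs => rw [← formL_apply hf w, pi_eq_sum_univ' z, map_sum]
    refine Finset.sum_congr rfl fun i _ => ?_
    rw [map_smul, formL_apply, smul_eq_mul, right i w, Finset.mul_sum]
    simp [mul_assoc]
  rw [key, key, map_sum]
  refine Finset.sum_congr rfl fun i _ => ?_
  rw [map_sum]
  refine Finset.sum_congr rfl fun j _ => ?_
  rw [map_mul, map_mul, O.hreal]
  rfl

lemma real_fixed {a b : ι → F} (ha : cj σ a = a) (hb : cj σ b = b) : σ (f a b) = f a b := by
  rw [cj_f O, ha, hb]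

lemma real_symm {a b : ι → F} (ha : cj σ a = a) (hb : cj σ b = b) : f b a = f a b := by
  rw [O.hf.herm, real_fixed O ha hb]

lemma exists_imag : ∃ τ : F, τ ≠ 0 ∧ σ τ = -τ := exists_trace_zero O.hf.ne_refl O.hf.involutive

lemma imag_sq {τ : F} (hτ : σ τ = -τ) : σ (τ * τ) = τ * τ := by rw [map_mul, hτ, neg_mul_neg]

/-- Every scalar has a real and an imaginary part. -/
lemma exists_parts {τ : F} (hτ0 : τ ≠ 0) (hτ : σ τ = -τ) (l : F) :
    ∃ x y : F, σ x = x ∧ σ y = y ∧ l = x + τ * y := by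
  have h2 := O.h2
  refine ⟨(l + σ l) / 2, (l - σ l) / (2 * τ), ?_, ?_, ?_⟩
  · rw [map_div₀, map_add, O.hf.involutive, map_ofNat, add_comm]
  · rw [map_div₀, map_sub, map_mul, O.hf.involutive, map_ofNat, hτ, mul_neg, div_neg, ← neg_div,
      neg_sub]
  · field_simp; ring

/-- Every vector has a real and an imaginary part. -/
lemma exists_parts_vec {τ : F} (hτ0 : τ ≠ 0) (hτ : σ τ = -τ) (z : ι → F) :
    ∃ a b : ι → F, cj σ a = a ∧ cj σ b = b ∧ z = a + τ • b := by
  choose x y hx hy e using fun i => exists_parts O hτ0 hτ (z i)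
  exact ⟨x, y, funext hx, funext hy, funext e⟩

lemma eq_zero_of_real {d : ι → F} (h : ∀ a, cj σ a = a → f d a = 0) : d = 0 := by
  by_contra hd
  obtain ⟨z, hz⟩ := (O.hf.nondegenerate d hd).2
  obtain ⟨τ, hτ0, hτ⟩ := exists_imag O
  obtain ⟨a, b, ha, hb, rfl⟩ := exists_parts_vec O hτ0 hτ z
  exact hz (by rw [add_right O.hf, smul_right O.hf, h a ha, h b hb, mul_zero, add_zero])

/-- A singular real vector. -/
lemma exists_singular : ∃ u : ι → F, cj σ u = u ∧ u ≠ 0 ∧ f u u = 0 := by
  classical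
  have hf := O.hf
  set K := fixedField σ
  haveI := Fintype.ofFinite K
  let cv : (ι → K) → (ι → F) := fun x i => (x i : F)
  have hadd : ∀ x y, cv (x + y) = cv x + cv y := fun x y => funext fun i => by simp [cv]
  have hsmul : ∀ (c : K) x, cv (c • x) = (c : F) • cv x := fun c x => funext fun i => by simp [cv]
  have hre : ∀ x, cj σ (cv x) = cv x := fun x => funext fun i => (x i).2
  let B : (ι → K) →ₗ[K] (ι → K) →ₗ[K] K := LinearMap.mk₂ K
    (fun x y => ⟨f (cv x) (cv y), real_fixed O (hre x) (hre y)⟩)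
    (fun x x' y => Subtype.ext (by simp [hadd, hf.add_left]))
    (fun c x y => Subtype.ext (by simp [hsmul, hf.smul_left]))
    (fun x y y' => Subtype.ext (by simp [hadd, Unit.add_right hf]))
    (fun c x y => Subtype.ext (by
      simp [hsmul, Unit.smul_right hf, show σ (c : F) = c from c.2]))
  let Q : QuadraticForm K (ι → K) := LinearMap.BilinMap.toQuadraticMap B
  have h20 : (2 : K) ≠ 0 := fun h => O.h2 (congrArg Subtype.val h)
  obtain ⟨x, -, hx0, hx⟩ := CfsgLib.ClassicalMax.OmS.exists_singular_of_three (Q := Q) h20 (S := ⊤)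
    (by rw [finrank_top, Module.finrank_fintype_fun_eq_card, O.hn]; norm_num)
  refine ⟨cv x, hre x, fun h => hx0 (funext fun i => Subtype.ext (congrFun h i)), ?_⟩
  exact congrArg Subtype.val hx

omit O in
/-- A real frame at a singular real vector. -/
structure Frame (σ : F ≃+* F) (f : (ι → F) → (ι → F) → F) (u u' x1 x2 : ι → F) : Prop where
  cu : cj σ u = u
  cu' : cj σ u' = u'
  c1 : cj σ x1 = x1
  c2 : cj σ x2 = x2
  uu : f u u = 0
  vv : f u' u' = 0
  uv : f u u' = 1
  vu : f u' u = 1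
  u1 : f u x1 = 0
  u2 : f u x2 = 0
  v1 : f u' x1 = 0
  v2 : f u' x2 = 0
  o1u : f x1 u = 0
  o2u : f x2 u = 0
  o1v : f x1 u' = 0
  o2v : f x2 u' = 0
  o12 : f x1 x2 = 0
  o21 : f x2 x1 = 0
  n1 : f x1 x1 ≠ 0
  n2 : f x2 x2 ≠ 0
  expand : ∀ z, z = f z u' • u + f z u • u' + (f z x1 / f x1 x1) • x1 + (f z x2 / f x2 x2) • x2

lemma exists_frame {u : ι → F} (hu : cj σ u = u) (hu0 : u ≠ 0) (huu : f u u = 0) :
    ∃ u' x1 x2, Frame σ f u u' x1 x2 := by
  have hf := O.hf
  have h2 := O.h2
  obtain ⟨y, hy, hyu⟩ : ∃ y, cj σ y = y ∧ f u y ≠ 0 := by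
    by_contra h
    push Not at h
    exact hu0 (eq_zero_of_real O h)
  set y' := (f u y)⁻¹ • y
  have hyσ : σ (f u y) = f u y := real_fixed O hu hy
  have hy' : cj σ y' = y' := by rw [cj_smul, map_inv₀, hyσ, hy]
  have huy' : f u y' = 1 := by rw [smul_right hf, map_inv₀, hyσ, inv_mul_cancel₀ hyu]
  clear_value y'
  set u' := y' - (f y' y' / 2) • u with hu'
  have hcu' : cj σ u' = u' := by
    rw [hu', cj_sub, cj_smul, map_div₀, map_ofNat, self_fixed hf, hy', hu]
  have huv : f u u' = 1 := by rw [hu', sub_right hf, smul_right hf, huu, mul_zero, sub_zero, huy']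
  have hvu : f u' u = 1 := by rw [hf.herm, huv, map_one]
  have hvv : f u' u' = 0 := by
    rw [hu', sub_left hf, sub_right hf, sub_right hf, hf.smul_left, hf.smul_left, smul_right hf,
      smul_right hf, map_div₀, map_ofNat, self_fixed hf, huu, huy', hf.herm y' u, huy', map_one]
    field_simp
    ring
  clear_value u'
  let π : (ι → F) → (ι → F) := fun z => z - f z u' • u - f z u • u'
  have πu : ∀ z, f (π z) u = 0 := fun z => by
    simp only [π, sub_left hf, hf.smul_left, huu, hvu]; ring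
  have πv : ∀ z, f (π z) u' = 0 := fun z => by
    simp only [π, sub_left hf, hf.smul_left, huv, hvv]; ring
  have πc : ∀ z, cj σ z = z → cj σ (π z) = π z := fun z hz => by
    simp only [π, cj_sub, cj_smul, cj_f O, hz, hu, hcu']
  have hli2 : ∀ (s t : F) (w : ι → F), f w u = 0 → f w u' = 0 → s • u + t • u' + w = 0 →
      s = 0 ∧ t = 0 := by
    intro s t w h1 h2 h
    have e1 := congrArg (fun z => f z u') h
    have e2 := congrArg (fun z => f z u) h
    simp only [hf.add_left, hf.smul_left, huu, huv, hvu, hvv, h1, h2, zero_left hf, mul_zero,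
      mul_one, add_zero, zero_add] at e1 e2
    exact ⟨e1, e2⟩
  have hfour : ∀ S : Finset (ι → F), S.card ≤ 3 →
      (∀ z, cj σ z = z → z ∈ Submodule.span F (S : Set (ι → F))) → False := by
    intro S hS h
    have htop : Submodule.span F (S : Set (ι → F)) = ⊤ := eq_top_iff.2 fun z _ => by
      rw [pi_eq_sum_univ' z]
      exact Submodule.sum_mem _ fun i _ => Submodule.smul_mem _ _ (h _ (cj_single i))
    have h1 := finrank_span_finset_le_card (R := F) S
    rw [Set.finrank, htop, finrank_top, Module.finrank_fintype_fun_eq_card, O.hn] at h1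
    omega
  obtain ⟨x1, hc1, h1u, h1v, n1⟩ : ∃ x1, cj σ x1 = x1 ∧ f x1 u = 0 ∧ f x1 u' = 0 ∧ f x1 x1 ≠ 0 := by
    by_contra hcon
    push Not at hcon
    have hzero : ∀ a b, cj σ a = a → cj σ b = b → f (π a) (π b) = 0 := by
      intro a b ha hb
      have h1 := hcon _ (by rw [cj_add, πc a ha, πc b hb])
        (show f (π a + π b) u = 0 by rw [hf.add_left, πu, πu, add_zero])
        (by rw [hf.add_left, πv, πv, add_zero])
      rw [hf.add_left, Unit.add_right hf, Unit.add_right hf, hcon _ (πc a ha) (πu a) (πv a),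
        hcon _ (πc b hb) (πu b) (πv b), zero_add, add_zero, real_symm O (πc a ha) (πc b hb),
        ← two_mul, mul_eq_zero] at h1
      exact h1.resolve_left h2
    refine hfour ({u, u'} : Finset (ι → F)) (Finset.card_le_two.trans (by norm_num)) fun z hz => ?_
    have h0 : π z = 0 := eq_zero_of_real O fun a ha => by
      have e : a = π a + f a u' • u + f a u • u' := by simp only [π]; module
      rw [e, Unit.add_right hf, Unit.add_right hf, Unit.smul_right hf, Unit.smul_right hf,
        hzero z a hz ha, πu, πv, mul_zero, mul_zero, add_zero, add_zero]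
    simp only [π, sub_sub, sub_eq_zero] at h0
    rw [h0, Finset.coe_pair, Submodule.mem_span_pair]
    exact ⟨_, _, rfl⟩
  let ρ : (ι → F) → (ι → F) := fun z => π z - (f (π z) x1 / f x1 x1) • x1
  have ρc : ∀ z, cj σ z = z → cj σ (ρ z) = ρ z := fun z hz => by
    simp only [ρ, cj_sub, cj_smul, map_div₀, cj_f O, πc z hz, hc1]
  have ρu : ∀ z, f (ρ z) u = 0 := fun z => by simp only [ρ, sub_left hf, hf.smul_left, πu, h1u]; ring
  have ρv : ∀ z, f (ρ z) u' = 0 := fun z => by simp only [ρ, sub_left hf, hf.smul_left, πv, h1v]; ring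
  have ρ1 : ∀ z, f (ρ z) x1 = 0 := fun z => by
    simp only [ρ, sub_left hf, hf.smul_left, div_mul_cancel₀ _ n1, sub_self]
  obtain ⟨z0, hz0, hρ0⟩ : ∃ z0, cj σ z0 = z0 ∧ ρ z0 ≠ 0 := by
    by_contra hcon
    push Not at hcon
    refine hfour {u, u', x1} Finset.card_le_three fun z hz => ?_
    have h := hcon z hz
    simp only [ρ, π, sub_sub, sub_eq_zero] at h
    rw [h, Finset.coe_insert, Finset.coe_pair]
    refine add_mem (add_mem ?_ ?_) ?_ <;> exact Submodule.smul_mem _ _ (Submodule.subset_span (by simp))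
  set x2 := ρ z0 with hx2
  have h21 : f x2 x1 = 0 := ρ1 z0
  have h2u : f x2 u = 0 := ρu z0
  have h2v : f x2 u' = 0 := ρv z0
  have hu1 : f u x1 = 0 := eq_zero_comm hf h1u
  have hv1 : f u' x1 = 0 := eq_zero_comm hf h1v
  have hu2 : f u x2 = 0 := eq_zero_comm hf (ρu z0)
  have hv2 : f u' x2 = 0 := eq_zero_comm hf (ρv z0)
  have h12 : f x1 x2 = 0 := eq_zero_comm hf (ρ1 z0)
  have hlin : LinearIndependent F ![u, u', x1, x2] := by
    rw [Fintype.linearIndependent_iff]
    intro g hg
    simp only [Fin.sum_univ_four, Matrix.cons_val] at hg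
    obtain ⟨e0, e1⟩ := hli2 (g 0) (g 1) (g 2 • x1 + g 3 • x2)
      (by rw [hf.add_left, hf.smul_left, hf.smul_left, h1u, ρu, mul_zero, mul_zero, add_zero])
      (by rw [hf.add_left, hf.smul_left, hf.smul_left, h1v, ρv, mul_zero, mul_zero, add_zero])
      (by rw [← hg]; module)
    have e2 := congrArg (fun z => f z x1) hg
    simp only [hf.add_left, hf.smul_left, hu1, hv1, h21, zero_left hf, mul_zero, zero_add, add_zero,
      mul_eq_zero, n1, or_false] at e2
    rw [e0, e1, e2, zero_smul, zero_smul, zero_smul, zero_add, zero_add, zero_add, smul_eq_zero] at hg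
    intro i
    fin_cases i
    exacts [e0, e1, e2, hg.resolve_right hρ0]
  have hspan : Submodule.span F (Set.range ![u, u', x1, x2]) = ⊤ :=
    hlin.span_eq_top_of_card_eq_finrank (by simp [Module.finrank_fintype_fun_eq_card, O.hn])
  have hzero : ∀ d, f d u = 0 → f d u' = 0 → f d x1 = 0 → f d x2 = 0 → d = 0 := by
    intro d d0 d1 d2 d3
    by_contra hd
    obtain ⟨z, hz⟩ := (hf.nondegenerate d hd).2
    apply hz
    clear hz
    have hzs : z ∈ Submodule.span F (Set.range ![u, u', x1, x2]) := hspan ▸ Submodule.mem_top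
    induction hzs using Submodule.span_induction with
    | mem a ha => obtain ⟨i, rfl⟩ := ha; fin_cases i <;> assumption
    | zero => exact zero_right hf _
    | add a b _ _ ha hb => simp only [Unit.add_right hf, ha, hb, add_zero]
    | smul c a _ ha => simp only [Unit.smul_right hf, ha, mul_zero]
  have n2 : f x2 x2 ≠ 0 := fun h => hρ0 (hzero x2 (ρu z0) (ρv z0) (ρ1 z0) h)
  refine ⟨u', x1, x2, ⟨hu, hcu', hc1, ρc z0 hz0, huu, hvv, huv, hvu, hu1, hu2, hv1, hv2, h1u, ρu z0,
    h1v, ρv z0, h12, ρ1 z0, n1, n2, fun z => ?_⟩⟩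
  rw [← sub_eq_zero]
  apply hzero <;>
    simp only [sub_left hf, hf.add_left, hf.smul_left, huu, hvv, huv, hvu, hu1, hu2, hv1, hv2, h1u,
      h2u, h1v, h2v, h12, h21, mul_zero, mul_one, add_zero, zero_add, sub_self,
      div_mul_cancel₀ _ n1, div_mul_cancel₀ _ n2]

/-- A product of two reflections in real vectors. -/
lemma exists_refl_pair {v w : ι → F} (hv : cj σ v = v) (hw : cj σ w = w) (hvn : f v v ≠ 0)
    (hwn : f w w ≠ 0) (hvw : f v w = 0) : ∃ g : GL ι F, g ∈ isoOf f ⊓ specialLinear ι F ∧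
      (∀ z, (g : Matrix ι ι F) *ᵥ z = z - (2 * f z v / f v v) • v - (2 * f z w / f w w) • w) ∧
      ∀ z, cj σ z = z → cj σ ((g : Matrix ι ι F) *ᵥ z) = (g : Matrix ι ι F) *ᵥ z := by
  have hf := O.hf
  have hn1 : ((-1 : Fˣ) : F) * σ ((-1 : Fˣ) : F) = 1 := by simp
  refine ⟨qRefl hf v hvn (-1) * qRefl hf w hwn (-1),
    ⟨mul_mem (qRefl_mem_isoOf hf v hvn (-1) hn1) (qRefl_mem_isoOf hf w hwn (-1) hn1), ?_⟩, ?_⟩
  · refine MonoidHom.mem_ker.2 (Units.ext ?_)
    rw [map_mul, Units.val_mul, Matrix.GeneralLinearGroup.val_det_apply,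
      Matrix.GeneralLinearGroup.val_det_apply]
    change (qMat hf v ((-1 : Fˣ) : F)).det * (qMat hf w ((-1 : Fˣ) : F)).det = _
    rw [det_qMat hf hvn, det_qMat hf hwn]
    simp
  have hform : ∀ z, ((qRefl hf v hvn (-1) * qRefl hf w hwn (-1) : GL ι F) : Matrix ι ι F) *ᵥ z
      = z - (2 * f z v / f v v) • v - (2 * f z w / f w w) • w := fun z => by
    rw [gl_mulVec_mul, qRefl_mulVec, qRefl_mulVec, hf.add_left, hf.smul_left,
      eq_zero_comm hf hvw, mul_zero, add_zero]
    simp only [Units.val_neg, Units.val_one]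
    module
  refine ⟨hform, fun z hz => ?_⟩
  rw [hform, cj_sub, cj_sub, cj_smul, cj_smul, map_div₀, map_div₀, map_mul, map_mul, map_ofNat,
    cj_f O, cj_f O, cj_f O, cj_f O, hz, hv, hw]

omit O in
/-- The element of the unipotent radical at `u`. -/
def el (hf : IsUnitaryForm σ f) (u w : ι → F) (c : F) : GL ι F := ush hf u w 1 * uTv hf u c

variable {u w : ι → F}

omit O in
lemma el_mulVec (hf : IsUnitaryForm σ f) (hu : f u u = 0) (huw : f u w = 0) (c : F) (z : ι → F) :
    (el hf u w c : Matrix ι ι F) *ᵥ z = z + f z u • w - f z w • u + (c * f z u) • u := by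
  rw [el, gl_mulVec_mul, uTv_mulVec hf hu, ush_mulVec hf hu huw, hf.add_left, hf.add_left,
    hf.smul_left, hf.smul_left, hu, huw, map_one]
  module

omit O in
lemma el_mem_sl (hf : IsUnitaryForm σ f) (u w : ι → F) (c : F) :
    el hf u w c ∈ specialLinear ι F := mul_mem (ush_mem_sl hf _ _ _) (uTv_mem_sl hf _ _)

omit O in
lemma el_mem_isoOf (hf : IsUnitaryForm σ f) (hu : f u u = 0) (huw : f u w = 0) {c : F}
    (hc : c + σ c = -f w w) : el hf u w c ∈ isoOf f := by
  intro x y
  change f ((el hf u w c : Matrix ι ι F) *ᵥ x) ((el hf u w c : Matrix ι ι F) *ᵥ y) = f x y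
  simp only [el_mulVec hf hu huw, sub_left hf, sub_right hf, hf.add_left, Unit.add_right hf,
    hf.smul_left, Unit.smul_right hf, hu, huw, eq_zero_comm hf huw, map_mul, ← hf.herm]
  linear_combination f x u * f u y * hc

omit O in
lemma el_mul (hf : IsUnitaryForm σ f) {w' : ι → F} (hu : f u u = 0) (huw : f u w = 0)
    (huw' : f u w' = 0) (c c' : F) :
    el hf u w c * el hf u w' c' = el hf u (w + w') (c + c' - f w' w) := by
  have h : f u (w + w') = 0 := by rw [Unit.add_right hf, huw, huw', add_zero]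
  refine gl_ext_mulVec fun z => ?_
  simp only [gl_mulVec_mul, el_mulVec hf hu huw, el_mulVec hf hu huw', el_mulVec hf hu h,
    sub_left hf, hf.add_left, hf.smul_left, Unit.add_right hf, hu, huw, eq_zero_comm hf huw',
    mul_zero, add_zero, zero_add, sub_zero]
  module

omit O in
lemma el_zero_left (hf : IsUnitaryForm σ f) (hu : f u u = 0) (c : F) :
    el hf u 0 c = uTv hf u c := by
  refine gl_ext_mulVec fun z => ?_
  rw [el_mulVec hf hu (zero_right hf u), uTv_mulVec hf hu, zero_right hf]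
  module

omit O in
lemma el_inv (hf : IsUnitaryForm σ f) (hu : f u u = 0) (huw : f u w = 0) (c : F) :
    (el hf u w c)⁻¹ = el hf u (-w) (-c - f w w) := by
  refine inv_eq_of_mul_eq_one_right ?_
  have hw : f u (-w) = 0 := by rw [← neg_one_smul F w, Unit.smul_right hf, huw, mul_zero]
  rw [el_mul hf hu huw hw, add_neg_cancel, el_zero_left hf hu]
  have e : c + (-c - f w w) - f (-w) w = 0 := by
    rw [← neg_one_smul F w, hf.smul_left]; ring
  rw [e]
  exact gl_ext_mulVec fun z => by rw [uTv_mulVec hf hu]; simp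

omit O in
lemma el_conj (hf : IsUnitaryForm σ f) (hu : f u u = 0) (huw : f u w = 0) (c : F) {g : GL ι F}
    (hg : g ∈ isoOf f) : g * el hf u w c * g⁻¹ =
      el hf ((g : Matrix ι ι F) *ᵥ u) ((g : Matrix ι ι F) *ᵥ w) c := by
  rw [el, el, ← ush_conj hf hg hu huw, ← uTv_conj hf hg hu]
  group

omit O in
lemma el_smul (hf : IsUnitaryForm σ f) (hu : f u u = 0) (huw : f u w = 0) (l c : F) :
    el hf (l • u) w c = el hf u (σ l • w) (c * (l * σ l)) := by
  refine gl_ext_mulVec fun z => ?_
  rw [el_mulVec hf (by rw [hf.smul_left, Unit.smul_right hf, hu, mul_zero, mul_zero])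
    (by rw [hf.smul_left, huw, mul_zero]),
    el_mulVec hf hu (by rw [Unit.smul_right hf, huw, mul_zero]), Unit.smul_right hf,
    Unit.smul_right hf, hf.involutive]
  module

omit O in
lemma trace_el (hf : IsUnitaryForm σ f) (hu : f u u = 0) (huw : f u w = 0) (c : F) :
    ((el hf u w c : GL ι F) : Matrix ι ι F).trace = Fintype.card ι := by
  have e : ((el hf u w c : GL ι F) : Matrix ι ι F) = 1 + vecMulVec w (Unit.formDual hf u)
      - vecMulVec u (Unit.formDual hf w) + c • vecMulVec u (Unit.formDual hf u) := by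
    refine Matrix.ext_of_mulVec_single fun i => ?_
    rw [el_mulVec hf hu huw]
    simp only [Matrix.add_mulVec, Matrix.sub_mulVec, Matrix.smul_mulVec, one_mulVec,
      Matrix.vecMulVec_mulVec, Unit.formDual_dot, MulOpposite.smul_eq_mul_unop, MulOpposite.unop_op]
    funext k
    simp only [Pi.add_apply, Pi.sub_apply, Pi.smul_apply, smul_eq_mul, MulOpposite.smul_eq_mul_unop,
      MulOpposite.unop_op]
    ring
  rw [e, trace_add, trace_sub, trace_add, trace_smul, trace_one, trace_vecMulVec, trace_vecMulVec,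
    trace_vecMulVec, dotProduct_comm w, dotProduct_comm u, dotProduct_comm u (Unit.formDual hf u),
    Unit.formDual_dot, Unit.formDual_dot, Unit.formDual_dot, hu, huw, eq_zero_comm hf huw]
  simp

/-- Unipotent elements at real singular vectors with real arguments. -/
lemma el_real (hu : cj σ u = u) (hw : cj σ w = w) (huu : f u u = 0) (huw : f u w = 0) {c : F}
    (hc : c = -(f w w) / 2) : el O.hf u w c ∈ isoOf f ⊓ specialLinear ι F ∧
      ∀ z, cj σ z = z → cj σ ((el O.hf u w c : Matrix ι ι F) *ᵥ z) = (el O.hf u w c : Matrix ι ι F) *ᵥ z := by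
  have hf := O.hf
  have h2 := O.h2
  have hcσ : σ c = c := by rw [hc, map_div₀, map_neg, self_fixed hf, map_ofNat]
  refine ⟨⟨el_mem_isoOf hf huu huw (by rw [hcσ, hc]; field_simp; ring), el_mem_sl hf _ _ _⟩,
    fun z hz => ?_⟩
  rw [el_mulVec hf huu huw, cj_add, cj_sub, cj_add, cj_smul, cj_smul, cj_smul, map_mul, hcσ,
    cj_f O, cj_f O, hz, hu, hw]

end CfsgLib.ClassicalMax.UnitOrth4
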