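/-
One transvection at a singular real vector gives all transvections.
-/
import Cfsg.Agent.Lib.ClassicalMax.UnitOrthFour.Base
set_option autoImplicit false
set_option linter.unusedSectionVars false

namespace CfsgLib.ClassicalMax.UnitOrth4

open Matrix Cfsg.Geo CfsgLib.ClassicalMax CfsgLib.ClassicalMax.Unit

variable {ι : Type} [Fintype ι] [DecidableEq ι] {F : Type*} [Field F] [Fintype F] [DecidableEq F]
  {σ : F ≃+* F} {f : (ι → F) → (ι → F) → F}

/-- Mapping real vectors to real vectors. -/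
def IsRealMap (σ : F ≃+* F) (g : GL ι F) : Prop :=
  ∀ z, cj σ z = z → cj σ ((g : Matrix ι ι F) *ᵥ z) = (g : Matrix ι ι F) *ᵥ z

/-- A scalar multiple maps real vectors to real vectors. -/
def Sub (σ : F ≃+* F) (g : GL ι F) : Prop :=
  ∃ l : F, l ≠ 0 ∧ ∀ z, cj σ z = z →
    cj σ (l • ((g : Matrix ι ι F) *ᵥ z)) = l • ((g : Matrix ι ι F) *ᵥ z)

/-- An overgroup of the real special isometries. -/
structure OH (σ : F ≃+* F) (f : (ι → F) → (ι → F) → F) (M : Subgroup (GL ι F)) : Prop where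
  O : OStd σ f
  hMi : M ≤ isoOf f
  hHM : ∀ g ∈ isoOf f ⊓ specialLinear ι F, IsRealMap σ g → g ∈ M

lemma IsRealMap.sub {g : GL ι F} (h : IsRealMap σ g) : Sub σ g :=
  ⟨1, one_ne_zero, fun z hz => by rw [one_smul]; exact h z hz⟩

lemma IsRealMap.mul {g h : GL ι F} (hg : IsRealMap σ g) (hh : IsRealMap σ h) :
    IsRealMap σ (g * h) := fun z hz => by rw [gl_mulVec_mul]; exact hg _ (hh z hz)

lemma Sub.mul {g h : GL ι F} (hg : Sub σ g) (hh : Sub σ h) : Sub σ (g * h) := by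
  obtain ⟨l, hl, hlg⟩ := hg
  obtain ⟨m, hm, hmh⟩ := hh
  refine ⟨l * m, mul_ne_zero hl hm, fun z hz => ?_⟩
  have := hlg _ (hmh z hz)
  rwa [mulVec_smul, smul_smul, ← gl_mulVec_mul] at this

variable {M : Subgroup (GL ι F)} (H : OH σ f M)
include H

lemma Sub.commute {g : GL ι F} {l : F}
    (h : ∀ z, cj σ z = z → cj σ (l • ((g : Matrix ι ι F) *ᵥ z)) = l • ((g : Matrix ι ι F) *ᵥ z))
    (z : ι → F) : l • ((g : Matrix ι ι F) *ᵥ cj σ z) = cj σ (l • ((g : Matrix ι ι F) *ᵥ z)) := by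
  obtain ⟨τ, hτ0, hτ⟩ := exists_imag H.O
  obtain ⟨a, b, ha, hb, rfl⟩ := exists_parts_vec H.O hτ0 hτ z
  simp only [mulVec_add, mulVec_smul, cj_add, cj_smul, smul_add, smul_comm l, ha, hb]
  rw [← h a ha, ← h b hb, cj_smul, cj_smul]

lemma Sub.inv {g : GL ι F} (hg : Sub σ g) : Sub σ g⁻¹ := by
  obtain ⟨l, hl, hlg⟩ := hg
  refine ⟨l⁻¹, inv_ne_zero hl, fun z hz => ?_⟩
  have h := Sub.commute H hlg (l⁻¹ • (((g⁻¹ : GL ι F) : Matrix ι ι F) *ᵥ z))
  rw [mulVec_smul (g : Matrix ι ι F) l⁻¹, gl_mulVec_inv_mulVec, smul_smul, mul_inv_cancel₀ hl,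
    one_smul, hz] at h
  apply gl_mulVec_injective g
  dsimp only
  rw [mulVec_smul (g : Matrix ι ι F) l⁻¹, gl_mulVec_inv_mulVec]
  refine smul_right_injective _ hl ?_
  simp only [h, smul_smul, mul_inv_cancel₀ hl, one_smul]

lemma exists_orth_aniso {r r' : ι → F} (hr : cj σ r = r) (hr' : cj σ r' = r') (hrr : f r r = 0)
    (hne : f r r' ≠ 0) : ∃ w, cj σ w = w ∧ f r w = 0 ∧ f r' w = 0 ∧ f w w ≠ 0 := by
  have hf := H.O.hf
  have hr0 : r ≠ 0 := fun e => hne (by rw [e, zero_left hf])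
  obtain ⟨u', x1, x2, Fr⟩ := exists_frame H.O hr hr0 hrr
  refine ⟨x1 - (f x1 r' / f r r') • r, ?_, ?_, ?_, ?_⟩
  · rw [cj_sub, cj_smul, map_div₀, real_fixed H.O Fr.c1 hr', real_fixed H.O hr hr', Fr.c1, hr]
  · rw [sub_right hf, Unit.smul_right hf, hrr, Fr.u1, mul_zero, sub_zero]
  · refine eq_zero_comm hf ?_
    rw [sub_left hf, hf.smul_left, div_mul_cancel₀ _ hne, sub_self]
  · rw [sub_left hf, sub_right hf, sub_right hf, hf.smul_left, hf.smul_left, Unit.smul_right hf,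
      Unit.smul_right hf, hrr, Fr.u1, Fr.o1u]
    simpa using Fr.n1

/-- The reflection pair exchanging two non-orthogonal singular vectors. -/
lemma exists_swap {r r' : ι → F} (hr : cj σ r = r) (hr' : cj σ r' = r') (hrr : f r r = 0)
    (hrr' : f r' r' = 0) (hne : f r r' ≠ 0) {s : F} (hs : σ s = s) (hs0 : s ≠ 0) :
    ∃ h ∈ M, IsRealMap σ h ∧ (h : Matrix ι ι F) *ᵥ r = s • r' := by
  have hf := H.O.hf
  have h2 := H.O.h2
  obtain ⟨w, hw, hrw, hr'w, hw0⟩ := exists_orth_aniso H hr hr' hrr hne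
  have hsym := real_symm H.O hr hr'
  have hv : cj σ (r - s • r') = r - s • r' := by rw [cj_sub, cj_smul, hr, hr', hs]
  have hvv : f (r - s • r') (r - s • r') = -(2 * s * f r r') := by
    simp only [sub_left hf, sub_right hf, hf.smul_left, Unit.smul_right hf, hrr, hrr', hsym, hs]
    ring
  have hv0 : f (r - s • r') (r - s • r') ≠ 0 :=
    hvv ▸ neg_ne_zero.2 (mul_ne_zero (mul_ne_zero h2 hs0) hne)
  have hvw : f (r - s • r') w = 0 := by
    rw [sub_left hf, hf.smul_left, hrw, hr'w, mul_zero, sub_zero]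
  obtain ⟨g, hg, hform, hreal⟩ := exists_refl_pair H.O hv hw hv0 hw0 hvw
  refine ⟨g, H.hHM g hg hreal, hreal, ?_⟩
  rw [hform, hvv, hrw, sub_right hf, Unit.smul_right hf, hrr, hs]
  have e : 2 * (0 - s * f r r') / -(2 * s * f r r') = 1 := by
    rw [div_eq_one_iff_eq (neg_ne_zero.2 (mul_ne_zero (mul_ne_zero h2 hs0) hne))]; ring
  rw [e]
  simp

/-- The torus at a hyperbolic pair. -/
lemma exists_torus {r r' : ι → F} (hr : cj σ r = r) (hr' : cj σ r' = r') (hrr : f r r = 0)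
    (hrr' : f r' r' = 0) (h1 : f r r' = 1) {a : F} (ha : σ a = a) (ha0 : a ≠ 0) :
    ∃ t ∈ M, (t : Matrix ι ι F) *ᵥ r = a • r ∧ (t : Matrix ι ι F) *ᵥ r' = a⁻¹ • r' ∧
      ∀ z, f z r = 0 → f z r' = 0 → (t : Matrix ι ι F) *ᵥ z = z := by
  have hf := H.O.hf
  have h2 := H.O.h2
  obtain ⟨w, hw, hrw, hr'w, hw0⟩ := exists_orth_aniso H hr hr' hrr (h1 ▸ one_ne_zero)
  have h1' : f r' r = 1 := by rw [hf.herm, h1, map_one]
  have key : ∀ s : F, σ s = s → s ≠ 0 → ∃ g ∈ M, (g : Matrix ι ι F) *ᵥ r = s • r' ∧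
      (g : Matrix ι ι F) *ᵥ r' = s⁻¹ • r ∧ ∀ z, f z r = 0 → f z r' = 0 →
        (g : Matrix ι ι F) *ᵥ z = z - (2 * f z w / f w w) • w := by
    intro s hs hs0
    have hv : cj σ (r - s • r') = r - s • r' := by rw [cj_sub, cj_smul, hr, hr', hs]
    have hvv : f (r - s • r') (r - s • r') = -(2 * s) := by
      simp only [sub_left hf, sub_right hf, hf.smul_left, Unit.smul_right hf, hrr, hrr', h1, h1', hs]
      ring
    have hs2 : 2 * s ≠ 0 := mul_ne_zero h2 hs0
    have hvw : f (r - s • r') w = 0 := by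
      rw [sub_left hf, hf.smul_left, hrw, hr'w, mul_zero, sub_zero]
    obtain ⟨g, hg, hform, hreal⟩ :=
      exists_refl_pair H.O hv hw (hvv ▸ neg_ne_zero.2 hs2) hw0 hvw
    refine ⟨g, H.hHM g hg hreal, ?_, ?_, fun z hz hz' => ?_⟩
    · rw [hform, hvv, hrw, sub_right hf, Unit.smul_right hf, hrr, hs, h1]
      have e : 2 * (0 - s * 1) / -(2 * s) = 1 := by
        rw [div_eq_one_iff_eq (neg_ne_zero.2 hs2)]; ring
      rw [e]
      simp
    · rw [hform, hvv, hr'w, sub_right hf, Unit.smul_right hf, hrr', hs, h1']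
      have e : 2 * (1 - s * 0) / -(2 * s) = -s⁻¹ := by field_simp; ring
      rw [e]
      simp only [mul_zero, zero_div, zero_smul, sub_zero, smul_sub, smul_smul, neg_smul, neg_mul,
        inv_mul_cancel₀ hs0, one_smul]
      abel
    · rw [hform, sub_right hf, Unit.smul_right hf, hz, hz']
      simp
  obtain ⟨g₁, hg₁, a1, b1, c1⟩ := key a ha ha0
  obtain ⟨g₂, hg₂, a2, b2, c2⟩ := key 1 (map_one σ) one_ne_zero
  refine ⟨g₂ * g₁, mul_mem hg₂ hg₁, ?_, ?_, fun z hz hz' => ?_⟩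
  · rw [gl_mulVec_mul, a1, mulVec_smul, b2, inv_one, one_smul]
  · rw [gl_mulVec_mul, b1, mulVec_smul, a2, one_smul]
  · rw [gl_mulVec_mul, c1 z hz hz', mulVec_sub, mulVec_smul, c2 z hz hz',
      c2 w (eq_zero_comm hf hrw) (eq_zero_comm hf hr'w)]
    have e : 2 * f w w / f w w = 2 := by field_simp
    rw [e]
    module

/-- Any singular real vector moves to any other one. -/
lemma exists_move {r r' : ι → F} (hr : cj σ r = r) (hr' : cj σ r' = r') (hr0 : r ≠ 0) (hr0' : r' ≠ 0)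
    (hrr : f r r = 0) (hrr' : f r' r' = 0) {s : F} (hs : σ s = s) (hs0 : s ≠ 0) :
    ∃ h ∈ M, IsRealMap σ h ∧ (h : Matrix ι ι F) *ᵥ r = s • r' := by
  have hf := H.O.hf
  by_cases hne : f r r' = 0
  swap
  · exact exists_swap H hr hr' hrr hrr' hne hs hs0
  obtain ⟨u', x1, x2, Fr⟩ := exists_frame H.O hr hr0 hrr
  have hne' : f r' r = 0 := eq_zero_comm hf hne
  obtain ⟨r3, h3, h33, hA, hB⟩ : ∃ r3, cj σ r3 = r3 ∧ f r3 r3 = 0 ∧ f r r3 ≠ 0 ∧ f r' r3 ≠ 0 := by
    by_cases ha : f r' u' = 0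
    swap
    · exact ⟨u', Fr.cu', Fr.vv, by rw [Fr.uv]; exact one_ne_zero, ha⟩
    obtain ⟨x, hcx, hx, hux, hvx⟩ : ∃ x, cj σ x = x ∧ f r' x ≠ 0 ∧ f r x = 0 ∧ f u' x = 0 := by
      by_contra hcon
      push Not at hcon
      have e1 : f r' x1 = 0 := by_contra fun h => hcon x1 Fr.c1 h Fr.u1 Fr.v1
      have e2 : f r' x2 = 0 := by_contra fun h => hcon x2 Fr.c2 h Fr.u2 Fr.v2
      exact hr0' (by rw [Fr.expand r', ha, hne', e1, e2]; simp)
    refine ⟨u' + x - (f x x / 2) • r, ?_, ?_, ?_, ?_⟩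
    · rw [cj_sub, cj_add, cj_smul, map_div₀, self_fixed hf, map_ofNat, Fr.cu', hcx, hr]
    · simp only [sub_left hf, sub_right hf, hf.add_left, Unit.add_right hf, hf.smul_left,
        Unit.smul_right hf, map_div₀, self_fixed hf, map_ofNat, hrr, hux, hvx, eq_zero_comm hf hux,
        eq_zero_comm hf hvx, Fr.vv, Fr.uv, Fr.vu]
      have := H.O.h2
      field_simp
      ring
    · simp [sub_right hf, Unit.add_right hf, Unit.smul_right hf, hrr, hux, Fr.uv]
    · simpa [sub_right hf, Unit.add_right hf, Unit.smul_right hf, hne', ha] using hx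
  obtain ⟨h₁, hh₁, h₁r, e₁⟩ := exists_swap H hr h3 hrr h33 hA (map_one σ) one_ne_zero
  obtain ⟨h₂, hh₂, h₂r, e₂⟩ := exists_swap H h3 hr' h33 hrr' (ne_zero_comm hf hB) hs hs0
  exact ⟨h₂ * h₁, mul_mem hh₂ hh₁, h₂r.mul h₁r, by rw [gl_mulVec_mul, e₁, one_smul, e₂]⟩

/-- One transvection gives all transvections at singular real vectors. -/
lemma uSet_real {r₀ : ι → F} (hr₀ : cj σ r₀ = r₀) (hr₀0 : r₀ ≠ 0) (hr₀r : f r₀ r₀ = 0) {c₀ : F}
    (hc₀ : σ c₀ = -c₀) (hc₀0 : c₀ ≠ 0) (hT : uTv H.O.hf r₀ c₀ ∈ M) {r : ι → F}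
    (hr : cj σ r = r) (hrr : f r r = 0) : r ∈ uSet H.O.hf M := by
  have hf := H.O.hf
  have h2 := H.O.h2
  refine ⟨hrr, fun c hc => ?_⟩
  by_cases hr0 : r = 0
  · subst hr0
    have e : uTv hf (0 : ι → F) c = 1 := gl_ext_mulVec fun z => by
      rw [uTv_mulVec hf hrr]; simp
    rw [e]
    exact M.one_mem
  have sq : ∀ s : F, σ s = s → uTv hf r (c₀ * (s * s)) ∈ M := by
    intro s hs
    by_cases hs0 : s = 0
    · have e : uTv hf r (c₀ * (s * s)) = 1 := gl_ext_mulVec fun z => by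
        rw [uTv_mulVec hf hrr, hs0]; simp
      rw [e]
      exact M.one_mem
    obtain ⟨h, hh, -, e⟩ := exists_move H hr₀ hr hr₀0 hr0 hr₀r hrr hs hs0
    have h1 := mul_mem (mul_mem hh hT) (inv_mem hh)
    rwa [uTv_conj hf (H.hMi hh) hr₀r, e, uTv_smul hf hrr, hs] at h1
  set t := c / c₀ with ht
  have htσ : σ t = t := by rw [ht, map_div₀, hc, hc₀, neg_div_neg_eq]
  have h1 := sq ((t + 1) / 2) (by rw [map_div₀, map_add, htσ, map_one, map_ofNat])
  have h2' := sq ((t - 1) / 2) (by rw [map_div₀, map_sub, htσ, map_one, map_ofNat])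
  have h3 := M.mul_mem h1 (M.inv_mem h2')
  rw [uTv_inv_eq hf hrr, uTv_mul hf hrr] at h3
  convert h3 using 2
  rw [ht]
  field_simp
  ring

/-- All transvections at singular real vectors give all transvections. -/
lemma uSet_all (hall : ∀ r, cj σ r = r → f r r = 0 → r ∈ uSet H.O.hf M) {z : ι → F}
    (hz : f z z = 0) : z ∈ uSet H.O.hf M := by
  have hf := H.O.hf
  have h2 := H.O.h2
  obtain ⟨τ, hτ0, hτ⟩ := exists_imag H.O
  obtain ⟨u₀, hu₀, hu₀0, hu₀u⟩ := exists_singular H.O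
  by_cases hz0 : z = 0
  · subst hz0; exact hall 0 cj_zero hz
  -- a singular real vector not orthogonal to `z`
  obtain ⟨u, hu, huu, hzu⟩ : ∃ u, cj σ u = u ∧ f u u = 0 ∧ f z u ≠ 0 := by
    obtain ⟨u', x1, x2, Fr⟩ := exists_frame H.O hu₀ hu₀0 hu₀u
    by_contra hcon
    push Not at hcon
    have a0 := hcon u₀ hu₀ hu₀u
    have a1 := hcon u' Fr.cu' Fr.vv
    have hx : ∀ x, cj σ x = x → f u₀ x = 0 → f u' x = 0 → f z x = 0 := by
      intro x hcx hux hvx
      have h := hcon (u' + x - (f x x / 2) • u₀)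
        (by rw [cj_sub, cj_add, cj_smul, map_div₀, self_fixed hf, map_ofNat, Fr.cu', hcx, hu₀])
        (by
          simp only [sub_left hf, sub_right hf, hf.add_left, Unit.add_right hf, hf.smul_left,
            Unit.smul_right hf, map_div₀, self_fixed hf, map_ofNat, hu₀u, hux, hvx,
            eq_zero_comm hf hux, eq_zero_comm hf hvx, Fr.vv, Fr.uv, Fr.vu]
          field_simp
          ring)
      simpa [sub_right hf, Unit.add_right hf, Unit.smul_right hf, a0, a1] using h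
    exact hz0 (by rw [Fr.expand z, a0, a1, hx x1 Fr.c1 Fr.u1 Fr.v1, hx x2 Fr.c2 Fr.u2 Fr.v2]; simp)
  have hu0 : u ≠ 0 := fun e => hzu (by rw [e, zero_right hf])
  suffices main : ∀ z, f z z = 0 → f z u = 1 → z ∈ uSet hf M by
    have h := main ((f z u)⁻¹ • z)
      (by rw [hf.smul_left, Unit.smul_right hf, hz, mul_zero, mul_zero])
      (by rw [hf.smul_left, inv_mul_cancel₀ hzu])
    have := uSet_smul hf (f z u) h
    rwa [smul_smul, mul_inv_cancel₀ hzu, one_smul] at this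
  clear hz hz0 hzu z
  intro z hz hzu
  obtain ⟨u', x1, x2, Fr⟩ := exists_frame H.O hu hu0 huu
  obtain ⟨a1, b1, ha1, hb1, e1⟩ := exists_parts H.O hτ0 hτ (f z x1 / f x1 x1)
  obtain ⟨a2, b2, ha2, hb2, e2⟩ := exists_parts H.O hτ0 hτ (f z x2 / f x2 x2)
  set x := a1 • x1 + a2 • x2 with hxdef
  set y := b1 • x1 + b2 • x2 with hydef
  have hex : z = f z u' • u + u' + x + τ • y := by
    conv_lhs => rw [Fr.expand z, hzu, one_smul, e1, e2]
    rw [hxdef, hydef]
    module
  have cx : cj σ x = x := by rw [hxdef, cj_add, cj_smul, cj_smul, Fr.c1, Fr.c2, ha1, ha2]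
  have cy : cj σ y = y := by rw [hydef, cj_add, cj_smul, cj_smul, Fr.c1, Fr.c2, hb1, hb2]
  have hux : f u x = 0 := by simp [hxdef, Unit.add_right hf, Unit.smul_right hf, Fr.u1, Fr.u2]
  have hvx : f u' x = 0 := by simp [hxdef, Unit.add_right hf, Unit.smul_right hf, Fr.v1, Fr.v2]
  have huy : f u y = 0 := by simp [hydef, Unit.add_right hf, Unit.smul_right hf, Fr.u1, Fr.u2]
  have hvy : f u' y = 0 := by simp [hydef, Unit.add_right hf, Unit.smul_right hf, Fr.v1, Fr.v2]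
  clear_value x y
  obtain ⟨s', k, d, hs', cd, hud, hvd, es⟩ : ∃ (s' : ι → F) (k : F) (d : ι → F),
      s' ∈ uSet hf M ∧ cj σ d = d ∧ f u d = 0 ∧ f u' d = 0 ∧
      s' = k • u + u' + d + τ • y := by
    by_cases hy : f y y = 0
    · refine ⟨u' + τ • (y + u), τ, 0, ?_, cj_zero, zero_right hf _, zero_right hf _, by module⟩
      have hyu : y + u ∈ uSet hf M := hall _ (by rw [cj_add, cy, hu]) (by
        simp [hf.add_left, Unit.add_right hf, hy, huu, huy, eq_zero_comm hf huy])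
      refine uSet_add hf (hall u' Fr.cu' Fr.vv) (uSet_smul hf τ hyu) ?_ ?_
      · simp [hf.smul_left, hf.add_left, eq_zero_comm hf hvy, Fr.uv, hτ0]
      · simp only [hf.add_left, Unit.add_right hf, hf.smul_left, Unit.smul_right hf, Fr.vv, hy, huu,
          huy, eq_zero_comm hf huy, hvy, eq_zero_comm hf hvy, Fr.uv, Fr.vu, hτ]
        ring
    · have hτ1 : 1 + τ ≠ 0 := fun e => h2 (by
        have h := congrArg σ e
        rw [map_add, map_one, hτ, map_zero] at h
        linear_combination e + h)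
      have hτ1' : 1 - τ ≠ 0 := fun e => h2 (by
        have h := congrArg σ e
        rw [map_sub, map_one, hτ, map_zero] at h
        linear_combination e + h)
      set β := (1 - τ * τ) • y with hβdef
      have hν : σ (1 - τ * τ) = 1 - τ * τ := by rw [map_sub, map_one, imag_sq H.O hτ]
      have hν0 : 1 - τ * τ ≠ 0 := by
        rw [show 1 - τ * τ = (1 + τ) * (1 - τ) by ring]; exact mul_ne_zero hτ1 hτ1'
      have cβ : cj σ β = β := by rw [hβdef, cj_smul, hν, cy]
      have huβ : f u β = 0 := by rw [hβdef, Unit.smul_right hf, huy, mul_zero]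
      have hvβ : f u' β = 0 := by rw [hβdef, Unit.smul_right hf, hvy, mul_zero]
      have hββ : f β β ≠ 0 := by
        rw [hβdef, hf.smul_left, Unit.smul_right hf, hν]
        exact mul_ne_zero hν0 (mul_ne_zero hν0 hy)
      clear_value β
      set bb := u' + β - (f β β / 2) • u with hbbdef
      have cbb : cj σ bb = bb := by
        rw [hbbdef, cj_sub, cj_add, cj_smul, map_div₀, self_fixed hf, map_ofNat, Fr.cu', cβ, hu]
      have hbb : f bb bb = 0 := by
        simp only [hbbdef, sub_left hf, sub_right hf, hf.add_left, Unit.add_right hf, hf.smul_left,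
          Unit.smul_right hf, map_div₀, self_fixed hf, map_ofNat, huu, huβ, hvβ,
          eq_zero_comm hf huβ, eq_zero_comm hf hvβ, Fr.vv, Fr.uv, Fr.vu]
        field_simp
        ring
      refine ⟨(1 + τ)⁻¹ • (u' + τ • bb), (1 + τ)⁻¹ * τ * (-(f β β / 2)), (-(τ * τ)) • y,
        uSet_smul hf _ ?_, ?_, ?_, ?_, ?_⟩
      · refine uSet_add hf (hall u' Fr.cu' Fr.vv) (uSet_smul hf τ (hall bb cbb hbb)) ?_ ?_
        · simp only [hbbdef, hf.smul_left, sub_left hf, hf.add_left, eq_zero_comm hf hvβ, Fr.vv,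
            Fr.uv, zero_add, mul_one, zero_sub, mul_neg, ne_eq, neg_eq_zero, mul_eq_zero, hτ0,
            div_eq_zero_iff, hββ, h2, or_self, not_false_eq_true]
        · have hsy := real_symm H.O Fr.cu' cbb
          rw [hf.add_left, Unit.add_right hf, Unit.add_right hf, hf.smul_left, hf.smul_left,
            Unit.smul_right hf, Unit.smul_right hf, Fr.vv, hbb, hτ, hsy]
          ring
      · rw [cj_smul, map_neg, imag_sq H.O hτ, cy]
      · rw [Unit.smul_right hf, huy, mul_zero]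
      · rw [Unit.smul_right hf, hvy, mul_zero]
      · rw [hbbdef, hβdef]
        match_scalars <;> field_simp <;> ring
  -- move `s'` to `z`
  have hel := el_real H.O hu (w := x - d) (by rw [cj_sub, cx, cd]) huu
    (by rw [sub_right hf, hux, hud, sub_zero]) rfl
  have hw := uSet_mulVec hf (H.hHM _ hel.1 hel.2) hel.1.1 hs'
  have hs'u : f s' u = 1 := by
    simp [es, hf.add_left, hf.smul_left, huu, Fr.vu, eq_zero_comm hf hud, eq_zero_comm hf huy]
  set w := (el H.O.hf u (x - d) (-(f (x - d) (x - d)) / 2) : Matrix ι ι F) *ᵥ s' with hwdef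
  obtain ⟨m, hm⟩ : ∃ m, z = w + m • u := by
    rw [el_mulVec hf huu (by rw [sub_right hf, hux, hud, sub_zero]), hs'u] at hwdef
    refine ⟨f z u' - k + f s' (x - d) - -(f (x - d) (x - d)) / 2 * 1, ?_⟩
    rw [hwdef, es]
    conv_lhs => rw [hex]
    module
  have hwu : f w u = 1 := by
    rw [hm, hf.add_left, hf.smul_left, huu, mul_zero, add_zero] at hzu
    exact hzu
  have hmσ : σ m = -m := by
    have huw : f u w = 1 := by rw [hf.herm, hwu, map_one]
    have h := hz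
    rw [hm, hf.add_left, Unit.add_right hf, Unit.add_right hf, hf.smul_left, hf.smul_left,
      Unit.smul_right hf, Unit.smul_right hf, hw.1, hwu, huw, huu] at h
    linear_combination h
  have := uSet_mulVec hf ((hall u hu huu).2 m hmσ) (uTv_mem_isoOf hf huu hmσ) hw
  rw [uTv_mulVec hf huu, hwu, mul_one] at this
  rwa [hm]

end CfsgLib.ClassicalMax.UnitOrth4
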