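/-
Without transvections, singular real vectors have no orthogonal images off the real subgroup.
-/
import Cfsg.Agent.Lib.ClassicalMax.UnitOrthFour.Trans
set_option autoImplicit false
set_option linter.unusedSectionVars false

namespace CfsgLib.ClassicalMax.UnitOrth4

open Matrix Cfsg.Geo CfsgLib.ClassicalMax CfsgLib.ClassicalMax.Unit
open CfsgLib.ClassicalMax.UnitFour4 (sg sg_mulVec sg_mul sg_shift sg_conj sg_long_left sg_inv)

variable {ι : Type} [Fintype ι] [DecidableEq ι] {F : Type*} [Field F] [Fintype F] [DecidableEq F]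
  {σ : F ≃+* F} {f : (ι → F) → (ι → F) → F} {M : Subgroup (GL ι F)}

lemma Frame.gl_ext {u u' x1 x2 : ι → F} (Fr : Frame σ f u u' x1 x2) {g h : GL ι F}
    (e0 : (g : Matrix ι ι F) *ᵥ u = (h : Matrix ι ι F) *ᵥ u)
    (e1 : (g : Matrix ι ι F) *ᵥ u' = (h : Matrix ι ι F) *ᵥ u')
    (e2 : (g : Matrix ι ι F) *ᵥ x1 = (h : Matrix ι ι F) *ᵥ x1)
    (e3 : (g : Matrix ι ι F) *ᵥ x2 = (h : Matrix ι ι F) *ᵥ x2) : g = h :=
  gl_ext_mulVec fun z => by
    rw [Fr.expand z]
    simp only [mulVec_add, mulVec_smul, e0, e1, e2, e3]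

variable (H : OH σ f M)
include H

/-- No transvections at singular real vectors. -/
def NT : Prop :=
  ∀ r, cj σ r = r → f r r = 0 → r ≠ 0 → ∀ c, uTv H.O.hf r c ∈ M → c = 0

lemma exists_sq_ne_one : ∃ a : F, σ a = a ∧ a ≠ 0 ∧ a * a ≠ 1 := by
  by_contra hcon
  push Not at hcon
  classical
  have hsub : (fixedField σ : Set F) ⊆ ({0, 1, -1} : Finset F) := by
    intro a ha
    by_cases h0 : a = 0
    · simp [h0]
    have := hcon a ha h0
    rcases mul_self_eq_one_iff.1 this with h | h <;> simp [h]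
  have h1 := Set.ncard_le_ncard hsub (Finset.finite_toSet _)
  rw [Set.ncard_coe_finset, ← Nat.card_coe_set_eq] at h1
  have h3 : Nat.card (fixedField σ) ≤ 3 := h1.trans Finset.card_le_three
  have := H.O.hq
  omega

lemma exists_zeta : ∃ ζ : F, ζ ≠ 0 ∧ σ ζ ≠ ζ ^ 3 := by
  by_contra hcon
  push Not at hcon
  classical
  have h9 : ∀ ζ : F, ζ ^ 9 = ζ := fun ζ => by
    by_cases h0 : ζ = 0
    · simp [h0]
    have e := congrArg σ (hcon ζ h0)
    rw [H.O.hf.involutive, map_pow, hcon ζ h0, ← pow_mul] at e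
    exact e.symm
  have hne : (Polynomial.X ^ 9 - Polynomial.X : Polynomial F) ≠ 0 :=
    FiniteField.X_pow_card_sub_X_ne_zero F (p := 9) (by norm_num)
  have hle : Fintype.card F ≤ 9 := by
    have h := Polynomial.card_le_degree_of_subset_roots
      (p := (Polynomial.X ^ 9 - Polynomial.X : Polynomial F)) (Z := Finset.univ) fun x _ => by
        rw [Polynomial.mem_roots hne]
        simp [h9 x]
    rwa [Finset.card_univ, FiniteField.X_pow_card_sub_X_natDegree_eq F (by norm_num)] at h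
  have hc := (exists_card_eq H.O.hf.ne_refl H.O.hf.involutive).1
  have hsq : 5 ^ 2 ≤ Nat.card (fixedField σ) ^ 2 := Nat.pow_le_pow_left H.O.hq 2
  omega

variable (hNT : NT H)
include hNT

set_option maxHeartbeats 800000 in
/-- An element of `M` fixing a singular real point is real up to a scalar. -/
lemma key_fix {g : GL ι F} (hg : g ∈ M) {u : ι → F} (hu : cj σ u = u) (hu0 : u ≠ 0)
    (huu : f u u = 0) {l : F} (hgu : (g : Matrix ι ι F) *ᵥ u = l • u) : Sub σ g := by
  have hf := H.O.hf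
  have h2 := H.O.h2
  have hgi := H.hMi hg
  have hgf : ∀ a b, f ((g : Matrix ι ι F) *ᵥ a) ((g : Matrix ι ι F) *ᵥ b) = f a b := fun a b => hgi a b
  obtain ⟨u', x1, x2, Fr⟩ := exists_frame H.O hu hu0 huu
  have hl0 : l ≠ 0 := fun e => gl_mulVec_ne_zero g hu0 (by rw [hgu, e, zero_smul])
  have hσl : σ l ≠ 0 := fun e => hl0 (by simpa using congrArg σ.symm e)
  -- images of real vectors orthogonal to `u`
  have key : ∀ x, cj σ x = x → f u x = 0 →
      cj σ (σ l • ((g : Matrix ι ι F) *ᵥ x)) = σ l • ((g : Matrix ι ι F) *ᵥ x) := by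
    intro x hx hux
    set y := σ l • ((g : Matrix ι ι F) *ᵥ x) with hy
    have huy : f u y = 0 := by
      have h := hgf u x
      rw [hgu, hux, hf.smul_left] at h
      rw [hy, Unit.smul_right hf, (mul_eq_zero.1 h).resolve_left hl0, mul_zero]
    have hel := el_real H.O hu (w := x) hx huu hux rfl
    have hE := mul_mem (mul_mem hg (H.hHM _ hel.1 hel.2)) (inv_mem hg)
    have hgu2 : f ((g : Matrix ι ι F) *ᵥ u) ((g : Matrix ι ι F) *ᵥ x) = 0 := (hgf u x).trans hux
    rw [el_conj hf huu hux _ hgi, hgu, el_smul hf huu (by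
      rw [hgu, hf.smul_left] at hgu2; exact (mul_eq_zero.1 hgu2).resolve_left hl0), ← hy] at hE
    have hyy : f y y = l * σ l * f x x := by
      rw [hy, hf.smul_left, Unit.smul_right hf, hf.involutive, hgf]; ring
    clear_value y
    set c₁ := -f x x / 2 * (l * σ l) with hc₁
    have hc₁' : c₁ = -f y y / 2 := by rw [hc₁, hyy]; ring
    clear_value c₁
    -- commutators
    have hreal : ∀ x', cj σ x' = x' → f u x' = 0 → σ (f y x') = f y x' := by
      intro x' hx' hux'
      have hel' := el_real H.O hu (w := x') hx' huu hux' rfl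
      have hM' := H.hHM _ hel'.1 hel'.2
      have h1 := mul_mem hE hM'
      have h2' := mul_mem hM' hE
      rw [el_mul hf huu huy hux'] at h1
      rw [el_mul hf huu hux' huy] at h2'
      have h3 := mul_mem h1 (inv_mem h2')
      have e : el hf u (y + x') (c₁ + -f x' x' / 2 - f x' y) *
          (el hf u (x' + y) (-f x' x' / 2 + c₁ - f y x'))⁻¹ = uTv hf u (f y x' - f x' y) := by
        have h0 : f u (x' + y) = 0 := by rw [Unit.add_right hf, hux', huy, add_zero]
        rw [add_comm y x', el_inv hf huu h0, el_mul hf huu h0 (by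
          rw [← neg_one_smul F (x' + y), Unit.smul_right hf, h0, mul_zero]), add_neg_cancel,
          el_zero_left hf huu]
        congr 1
        rw [← neg_one_smul F (x' + y), hf.smul_left]
        ring
      rw [e] at h3
      have h4 := hNT u hu huu hu0 _ h3
      rw [sub_eq_zero, hf.herm x' y] at h4
      exact h4.symm
    have hc1r := hreal x1 Fr.c1 Fr.u1
    have hc2r := hreal x2 Fr.c2 Fr.u2
    have hyu : f y u = 0 := eq_zero_comm hf huy
    have hex : y = f y u' • u + ((f y x1 / f x1 x1) • x1 + (f y x2 / f x2 x2) • x2) := by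
      conv_lhs => rw [Fr.expand y, hyu, zero_smul, add_zero, add_assoc]
    set w := (f y x1 / f x1 x1) • x1 + (f y x2 / f x2 x2) • x2 with hw
    have cw : cj σ w = w := by
      rw [hw, cj_add, cj_smul, cj_smul, map_div₀, map_div₀, hc1r, hc2r, self_fixed hf,
        self_fixed hf, Fr.c1, Fr.c2]
    have huw : f u w = 0 := by
      simp [hw, Unit.add_right hf, Unit.smul_right hf, Fr.u1, Fr.u2]
    clear_value w
    set s := f y u'
    clear_value s
    have hyyw : f y y = f w w := by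
      simp [hex, hf.add_left, Unit.add_right hf, hf.smul_left, Unit.smul_right hf, huu, huw,
        eq_zero_comm hf huw]
    have e1 : el hf u y c₁ = el hf u w (c₁ + s - σ s) := by
      refine gl_ext_mulVec fun z => ?_
      rw [el_mulVec hf huu huy, el_mulVec hf huu huw, hex, Unit.add_right hf, Unit.smul_right hf]
      module
    have hel' := el_real H.O hu (w := w) cw huu huw rfl
    have h5 := mul_mem hE (inv_mem (H.hHM _ hel'.1 hel'.2))
    rw [e1, el_inv hf huu huw, el_mul hf huu huw (by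
      rw [← neg_one_smul F w, Unit.smul_right hf, huw, mul_zero]), add_neg_cancel,
      el_zero_left hf huu] at h5
    have h6 := hNT u hu huu hu0 _ h5
    rw [hc₁', hyyw, ← neg_one_smul F w, hf.smul_left] at h6
    have hs : σ s = s := by
      have e : s - σ s = 0 := by
        rw [← h6]; field_simp; ring
      exact (sub_eq_zero.1 e).symm
    rw [hex, cj_add, cj_smul, hs, cw, hu]
  -- the image of `u'`
  set z := σ l • ((g : Matrix ι ι F) *ᵥ u') with hz
  clear_value z
  have hzu : f z u = 1 := by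
    have h := hgf u' u
    rw [hgu, Fr.vu, Unit.smul_right hf] at h
    rwa [hz, hf.smul_left]
  have hzz : f z z = 0 := by
    rw [hz, hf.smul_left, Unit.smul_right hf, hgf, Fr.vv, mul_zero, mul_zero]
  have hperp : ∀ d, f d u = 0 → f d ((g : Matrix ι ι F) *ᵥ x1) = 0 →
      f d ((g : Matrix ι ι F) *ᵥ x2) = 0 → ∃ k : F, d = k • u := by
    intro d d0 d1 d2
    set d' := ((g⁻¹ : GL ι F) : Matrix ι ι F) *ᵥ d
    have hd' : (g : Matrix ι ι F) *ᵥ d' = d := gl_mulVec_inv_mulVec g d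
    have a0 : f d' u = 0 := by rw [← hgf, hd', hgu, Unit.smul_right hf, d0, mul_zero]
    have a1 : f d' x1 = 0 := by rw [← hgf, hd', d1]
    have a2 : f d' x2 = 0 := by rw [← hgf, hd', d2]
    refine ⟨f d' u' * l, ?_⟩
    conv_lhs => rw [← hd', Fr.expand d', a0, a1, a2]
    simp [mulVec_smul, hgu, smul_smul]
  obtain ⟨k, hk⟩ : ∃ k : F, z - cj σ z = k • u := by
    refine hperp _ ?_ ?_ ?_
    · rw [sub_left hf, hzu]
      nth_rw 1 [← hu]
      rw [← cj_f H.O, hzu, map_one, sub_self]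
    all_goals
      have hh : ∀ x, cj σ x = x → f u x = 0 → f u' x = 0 →
          f (z - cj σ z) ((g : Matrix ι ι F) *ᵥ x) = 0 := by
        intro x hx hux hvx
        have h1 : f z ((g : Matrix ι ι F) *ᵥ x) = 0 := by rw [hz, hf.smul_left, hgf, hvx, mul_zero]
        have h2 : f (cj σ z) (σ l • ((g : Matrix ι ι F) *ᵥ x)) = 0 := by
          rw [← key x hx hux, ← cj_f H.O, Unit.smul_right hf, h1, mul_zero, map_zero]
        rw [Unit.smul_right hf, hf.involutive] at h2
        rw [sub_left hf, h1, (mul_eq_zero.1 h2).resolve_left hl0, sub_zero]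
    · exact hh x1 Fr.c1 Fr.u1 Fr.v1
    · exact hh x2 Fr.c2 Fr.u2 Fr.v2
  have hkσ : σ k = -k := by
    have h := congrArg (cj σ) hk
    rw [cj_sub, cj_cj H.O, cj_smul, hu, ← neg_sub, hk] at h
    exact smul_left_injective F hu0 (by simpa using h.symm)
  set s' := k / 2 with hs'def
  have hs'σ : σ s' = -s' := by rw [hs'def, map_div₀, hkσ, map_ofNat, neg_div]
  have hzs : z - cj σ z = (2 * s') • u := by rw [hk, hs'def, mul_div_cancel₀ _ h2]
  clear_value s'
  set z1 := z - s' • u with hz1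
  have cz1 : cj σ z1 = z1 := by
    rw [hz1, cj_sub, cj_smul, hu, hs'σ]
    linear_combination (norm := module) -hzs
  have hz1u : f z1 u = 1 := by rw [hz1, sub_left hf, hf.smul_left, huu, mul_zero, sub_zero, hzu]
  have hz11 : f z1 z1 = 0 := by
    have huz : f u z = 1 := by rw [hf.herm, hzu, map_one]
    simp only [hz1, sub_left hf, sub_right hf, hf.smul_left, Unit.smul_right hf, hzz, hzu, huz, huu,
      hs'σ]
    ring
  have hzeq : z = z1 + s' • u := (sub_add_cancel _ _).symm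
  clear_value z1
  -- the imaginary part vanishes
  have hs0 : s' = 0 := by
    obtain ⟨a, ha, ha0, ha1⟩ := exists_sq_ne_one H
    have huz1 : f u z1 = 1 := by rw [hf.herm, hz1u, map_one]
    obtain ⟨t, ht, tu, tu', tx⟩ := exists_torus H hu Fr.cu' huu Fr.vv Fr.uv ha ha0
    obtain ⟨t', ht', t'u, t'z, t'x⟩ := exists_torus H hu cz1 huu hz11 huz1 ha ha0
    set μ := (σ l)⁻¹ with hμ
    have hgu' : (g : Matrix ι ι F) *ᵥ u' = μ • (z1 + s' • u) := by
      rw [← hzeq, hz, smul_smul, inv_mul_cancel₀ hσl, one_smul]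
    have hgx : ∀ x, f x u = 0 → f x u' = 0 →
        f ((g : Matrix ι ι F) *ᵥ x) u = 0 ∧ f ((g : Matrix ι ι F) *ᵥ x) z1 = 0 := by
      intro x h1 h2
      have e1 : f ((g : Matrix ι ι F) *ᵥ x) u = 0 := by
        have h := hgf x u
        rw [hgu, h1, Unit.smul_right hf] at h
        exact (mul_eq_zero.1 h).resolve_left hσl
      refine ⟨e1, ?_⟩
      have h := hgf x u'
      rw [hgu', h2, Unit.smul_right hf, Unit.add_right hf, Unit.smul_right hf, e1, mul_zero,
        add_zero] at h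
      refine (mul_eq_zero.1 h).resolve_left ?_
      exact fun e => inv_ne_zero hσl (by simpa [hμ] using congrArg σ.symm e)
    have e : g * t * g⁻¹ = uTv hf u (s' * (1 - a * a)) * t' := by
      rw [mul_inv_eq_iff_eq_mul]
      refine Fr.gl_ext ?_ ?_ ?_ ?_
      · simp only [gl_mulVec_mul, tu, mulVec_smul, hgu, t'u, uTv_mulVec hf huu, hf.smul_left, huu]
        module
      · simp only [gl_mulVec_mul, tu', hgu', mulVec_smul, mulVec_add, t'u, t'z, uTv_mulVec hf huu,
          hf.add_left, hf.smul_left, huu, hz1u, smul_smul]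
        match_scalars <;> field_simp <;> ring
      all_goals simp only [gl_mulVec_mul]
      · rw [tx x1 Fr.o1u Fr.o1v, t'x _ (hgx x1 Fr.o1u Fr.o1v).1 (hgx x1 Fr.o1u Fr.o1v).2,
          uTv_mulVec_of_orth hf huu _ (hgx x1 Fr.o1u Fr.o1v).1]
      · rw [tx x2 Fr.o2u Fr.o2v, t'x _ (hgx x2 Fr.o2u Fr.o2v).1 (hgx x2 Fr.o2u Fr.o2v).2,
          uTv_mulVec_of_orth hf huu _ (hgx x2 Fr.o2u Fr.o2v).1]
    have hT : uTv hf u (s' * (1 - a * a)) ∈ M := by
      rw [← mul_inv_cancel_right (uTv hf u (s' * (1 - a * a))) t', ← e]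
      exact mul_mem (mul_mem (mul_mem hg ht) (inv_mem hg)) (inv_mem ht')
    have := hNT u hu huu hu0 _ hT
    exact (mul_eq_zero.1 this).resolve_right (sub_ne_zero.2 (Ne.symm ha1))
  rw [hs0, zero_smul, add_zero] at hzeq
  refine ⟨σ l, hσl, fun x hx => ?_⟩
  have hlu : cj σ (σ l • ((g : Matrix ι ι F) *ᵥ u)) = σ l • ((g : Matrix ι ι F) *ᵥ u) := by
    rw [hgu, smul_smul, cj_smul, map_mul, hf.involutive, hu, mul_comm]
  have hlv : cj σ z = z := by rw [hzeq, cz1]
  rw [Fr.expand x]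
  simp only [mulVec_add, mulVec_smul, smul_add, smul_comm (σ l), cj_add, cj_smul, map_div₀,
    real_fixed H.O hx Fr.cu', real_fixed H.O hx hu, real_fixed H.O hx Fr.c1, real_fixed H.O hx Fr.c2,
    self_fixed hf, ← hz, hlv]
  simp only [← cj_smul, hlu, key x1 Fr.c1 Fr.u1, key x2 Fr.c2 Fr.u2]

/-- No element maps a singular real vector to a totally isotropic combination of two real vectors. -/
lemma not_collinear {g : GL ι F} (hg : g ∈ M) {r a u : ι → F} (hr : cj σ r = r) (hrr : f r r = 0)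
    (hr0 : r ≠ 0) (ha : cj σ a = a) (hu : cj σ u = u) (haa : f a a = 0) (huu : f u u = 0)
    (hau : f a u = 0) (ha0 : a ≠ 0) (hli : ∀ k : F, u ≠ k • a) {α ζ : F} (hζ : σ ζ ≠ ζ)
    (h : (g : Matrix ι ι F) *ᵥ r = α • (a + ζ • u)) : False := by
  have hf := H.O.hf
  have hgi := H.hMi hg
  have hgf : ∀ a b, f ((g : Matrix ι ι F) *ᵥ a) ((g : Matrix ι ι F) *ᵥ b) = f a b := fun a b => hgi a b
  have hua : f u a = 0 := eq_zero_comm hf hau
  set v := a + ζ • u with hv
  have hvv : f v v = 0 := by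
    simp [hv, hf.add_left, Unit.add_right hf, hf.smul_left, Unit.smul_right hf, haa, huu, hau, hua]
  have hvu : f v u = 0 := by simp [hv, hf.add_left, hf.smul_left, huu, hau]
  have hae : a = v - ζ • u := by simp [hv]
  clear_value v
  have hα : α ≠ 0 := fun e => gl_mulVec_ne_zero g hr0 (by rw [h, e, zero_smul])
  have hS0 : IsRealMap σ (ush hf a u 1) := fun z hz => by
    rw [ush_mulVec hf haa hau, map_one, one_mul, one_mul, cj_sub, cj_add, cj_smul, cj_smul,
      real_fixed H.O hz ha, real_fixed H.O hz hu, hz, ha, hu]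
  have hS : sg hf v u 0 1 (ζ - σ ζ) ∈ M := by
    have e : sg hf v u 0 1 (ζ - σ ζ) = ush hf a u 1 := by
      refine gl_ext_mulVec fun z => ?_
      rw [sg_mulVec hf hvv huu hvu, ush_mulVec hf haa hau, hae, sub_right hf, Unit.smul_right hf,
        map_one]
      module
    rw [e]
    exact H.hHM _ ⟨ush_mem_isoOf hf haa huu hau 1, ush_mem_sl hf _ _ _⟩ hS0
  have hy0 : σ (ζ - σ ζ) = -(ζ - σ ζ) := by rw [map_sub, hf.involutive, neg_sub]
  -- an element moving `u` along `v`
  obtain ⟨y, hy, hry, hye⟩ : ∃ y, cj σ y = y ∧ f r y = 0 ∧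
      f (((g⁻¹ : GL ι F) : Matrix ι ι F) *ᵥ u) y ≠ 0 := by
    by_contra hcon
    push Not at hcon
    obtain ⟨r', y1, y2, Fr⟩ := exists_frame H.O hr hr0 hrr
    set u₁ := ((g⁻¹ : GL ι F) : Matrix ι ι F) *ᵥ u
    have hgu₁ : (g : Matrix ι ι F) *ᵥ u₁ = u := gl_mulVec_inv_mulVec g u
    have b0 : f u₁ r = 0 := by
      rw [← hgf, hgu₁, h, Unit.smul_right hf, eq_zero_comm hf hvu, mul_zero]
    have e1 : u = (f u₁ r' * α) • v := by
      conv_lhs => rw [← hgu₁, Fr.expand u₁, b0, hcon y1 Fr.c1 Fr.u1, hcon y2 Fr.c2 Fr.u2]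
      simp [mulVec_smul, h, smul_smul]
    set k := f u₁ r' * α
    rw [hv] at e1
    have e2 : (1 - k * ζ) • u = k • a := by linear_combination (norm := module) e1
    by_cases h0 : 1 - k * ζ = 0
    · rw [h0, zero_smul] at e2
      rcases smul_eq_zero.1 e2.symm with h' | h'
      · rw [h', zero_mul, sub_zero] at h0; exact one_ne_zero h0
      · exact ha0 h'
    · exact hli ((1 - k * ζ)⁻¹ * k) (by rw [← smul_smul, ← e2, smul_smul, inv_mul_cancel₀ h0, one_smul])
  set ε := -(α * f (((g⁻¹ : GL ι F) : Matrix ι ι F) *ᵥ u) y) with hε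
  have hε0 : ε ≠ 0 := neg_ne_zero.2 (mul_ne_zero hα hye)
  have step : ∀ s : F, σ s = s → sg hf v u
      (0 + ((s * ε) * 1 - σ ((s * ε) * 1)) + (ζ - σ ζ) * ((s * ε) * σ (s * ε)))
      (1 + (ζ - σ ζ) * σ (s * ε)) (ζ - σ ζ) ∈ M := by
    intro s hs
    have hsy : cj σ (s • y) = s • y := by rw [cj_smul, hs, hy]
    have hrsy : f r (s • y) = 0 := by rw [Unit.smul_right hf, hry, mul_zero]
    have hel := el_real H.O hr (w := s • y) hsy hrr hrsy rfl
    set E := g * el hf r (s • y) (-f (s • y) (s • y) / 2) * g⁻¹ with hEdef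
    have hE : E ∈ M := mul_mem (mul_mem hg (H.hHM _ hel.1 hel.2)) (inv_mem hg)
    have hEv : (E : Matrix ι ι F) *ᵥ v = v := by
      have hgv : ((g⁻¹ : GL ι F) : Matrix ι ι F) *ᵥ v = α⁻¹ • r := by
        apply gl_mulVec_injective g
        simp [mulVec_smul, h, smul_smul, inv_mul_cancel₀ hα]
      simp only [hEdef, gl_mulVec_mul, hgv, mulVec_smul, el_mulVec hf hrr hrsy, hrr, hrsy]
      simp [h, smul_smul, inv_mul_cancel₀ hα]
    have hEu : (E : Matrix ι ι F) *ᵥ u = u + (s * ε) • v := by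
      have b0 : f (((g⁻¹ : GL ι F) : Matrix ι ι F) *ᵥ u) r = 0 := by
        rw [← hgf, gl_mulVec_inv_mulVec, h, Unit.smul_right hf, eq_zero_comm hf hvu, mul_zero]
      simp only [hEdef, gl_mulVec_mul, el_mulVec hf hrr hrsy, b0, Unit.smul_right hf, hs, mulVec_add,
        mulVec_sub, mulVec_smul, gl_mulVec_inv_mulVec, h, hε]
      module
    have h1 := mul_mem (mul_mem hE hS) (inv_mem hE)
    rw [sg_conj hf hvv huu hvu (H.hMi hE), hEv, hEu, sg_shift hf hvv huu hvu _ hy0] at h1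
    exact h1
  have h1 := step 1 (map_one σ)
  have h1' := step (-1) (by rw [map_neg, map_one])
  have h3 := mul_mem (mul_mem h1 h1') (inv_mem (mul_mem hS hS))
  rw [sg_mul hf hvv huu hvu, sg_mul hf hvv huu hvu, sg_inv hf hvv huu hvu, sg_mul hf hvv huu hvu]
    at h3
  set c := (ζ - σ ζ) * (2 * (ε * σ ε)) with hc
  have h4 : uTv hf v c ∈ M := by
    rw [← sg_long_left hf hvv huu hvu]
    convert h3 using 2 <;> first | ring1 | (simp only [hc, map_mul, map_neg, map_one] <;> ring1)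
  have h5 := mul_mem (mul_mem (inv_mem hg) h4) hg
  have hgv : ((g⁻¹ : GL ι F) : Matrix ι ι F) *ᵥ v = α⁻¹ • r := by
    apply gl_mulVec_injective g
    simp [mulVec_smul, h, smul_smul, inv_mul_cancel₀ hα]
  have h6 := uTv_conj hf (inv_mem hgi : g⁻¹ ∈ isoOf f) hvv c
  rw [inv_inv, hgv, uTv_smul hf hrr] at h6
  rw [h6] at h5
  have h7 := hNT r hr hrr hr0 _ h5
  have hσε : σ ε ≠ 0 := fun e => hε0 (by simpa using congrArg σ.symm e)
  have hσα : σ α⁻¹ ≠ 0 := fun e => inv_ne_zero hα (by simpa using congrArg σ.symm e)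
  exact mul_ne_zero (mul_ne_zero (sub_ne_zero.2 (Ne.symm hζ))
    (mul_ne_zero H.O.h2 (mul_ne_zero hε0 hσε))) (mul_ne_zero (inv_ne_zero hα) hσα) h7

/-- The three kinds of isotropic vectors orthogonal to a singular real vector. -/
lemma trichotomy {u v : ι → F} (hu : cj σ u = u) (hu0 : u ≠ 0) (huu : f u u = 0)
    (hv : f v v = 0) (hvu : f v u = 0) :
    (∃ (k : F) (r : ι → F), cj σ r = r ∧ f r r = 0 ∧ v = k • r) ∨
    (∃ (a : ι → F) (α ζ : F), cj σ a = a ∧ f a a = 0 ∧ f a u = 0 ∧ a ≠ 0 ∧ (∀ k : F, u ≠ k • a) ∧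
      σ ζ ≠ ζ ∧ v = α • (a + ζ • u)) ∨
    ((∀ T : F, ∃ x, cj σ x = x ∧ f u x = 0 ∧ f v x = T) ∧ f v (cj σ v) ≠ 0) := by
  have hf := H.O.hf
  obtain ⟨u', x1, x2, Fr⟩ := exists_frame H.O hu hu0 huu
  set a := f v u'
  set c1 := f v x1 / f x1 x1
  set c2 := f v x2 / f x2 x2
  have hex : v = a • u + c1 • x1 + c2 • x2 := by
    conv_lhs => rw [Fr.expand v, hvu, zero_smul, add_zero]
  clear_value a c1 c2
  have hvn : c1 * σ c1 * f x1 x1 + c2 * σ c2 * f x2 x2 = 0 := by
    have h := hv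
    simp only [hex, hf.add_left, Unit.add_right hf, hf.smul_left, Unit.smul_right hf, huu, Fr.u1,
      Fr.u2, Fr.o1u, Fr.o2u, Fr.o12, Fr.o21] at h
    linear_combination h
  by_cases h1 : c1 = 0
  · left
    have h2 : c2 = 0 := by
      rw [h1, zero_mul, zero_mul, zero_add] at hvn
      simpa [Fr.n2] using hvn
    exact ⟨a, u, hu, huu, by rw [hex, h1, h2]; simp⟩
  set ρ := c2 / c1 with hρ
  have hc2 : c2 = c1 * ρ := by rw [hρ, mul_div_cancel₀ _ h1]
  clear_value ρ
  subst hc2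
  have hσc : σ c1 ≠ 0 := fun e => h1 (by simpa using congrArg σ.symm e)
  have hρn : f x1 x1 + ρ * σ ρ * f x2 x2 = 0 := by
    refine (mul_eq_zero.1 (show c1 * σ c1 * (f x1 x1 + ρ * σ ρ * f x2 x2) = 0 by
      rw [← hvn, map_mul]; ring)).resolve_left (mul_ne_zero h1 hσc)
  by_cases hρσ : σ ρ = ρ
  · set w := x1 + ρ • x2 with hw
    have cw : cj σ w = w := by rw [hw, cj_add, cj_smul, hρσ, Fr.c1, Fr.c2]
    have hww : f w w = 0 := by
      simp only [hw, hf.add_left, Unit.add_right hf, hf.smul_left, Unit.smul_right hf, Fr.o12, Fr.o21]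
      linear_combination hρn
    have hwu : f w u = 0 := by simp [hw, hf.add_left, hf.smul_left, Fr.o1u, Fr.o2u]
    have hve : v = c1 • (w + (a / c1) • u) := by
      rw [hex, smul_add, smul_smul, mul_div_cancel₀ _ h1, hw]; module
    by_cases hζ : σ (a / c1) = a / c1
    · left
      refine ⟨c1, w + (a / c1) • u, by rw [cj_add, cj_smul, cw, hζ, hu], ?_, hve⟩
      simp [hf.add_left, Unit.add_right hf, hf.smul_left, Unit.smul_right hf, hww, huu, hwu,
        eq_zero_comm hf hwu]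
    · refine Or.inr (Or.inl ⟨w, c1, a / c1, cw, hww, hwu, fun e => ?_, fun k hk => ?_, hζ, hve⟩)
      · have h := congrArg (fun z => f z x1) e
        simp [hw, hf.add_left, hf.smul_left, Fr.o21, zero_left hf, Fr.n1] at h
      · have h := congrArg (fun z => f z x1) hk
        simp only [Fr.u1, hw, hf.add_left, hf.smul_left, Fr.o21, mul_zero, add_zero] at h
        have hk0 : k = 0 := (mul_eq_zero.1 h.symm).resolve_right Fr.n1
        rw [hk0, zero_smul] at hk
        exact hu0 hk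
  · refine Or.inr (Or.inr ⟨fun T => ?_, ?_⟩)
    · set T' := T / (c1 * f x1 x1)
      set R := ρ * f x2 x2 / f x1 x1 with hR
      have hRσ : R - σ R ≠ 0 := by
        rw [hR, map_div₀, map_mul, self_fixed hf, self_fixed hf, ← sub_div, ← sub_mul]
        exact div_ne_zero (mul_ne_zero (sub_ne_zero.2 (Ne.symm hρσ)) Fr.n2) Fr.n1
      set t := (T' - σ T') / (R - σ R) with ht
      have htσ : σ t = t := by
        rw [ht, map_div₀, map_sub, map_sub, hf.involutive, hf.involutive, ← neg_sub T',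
          ← neg_sub R, neg_div_neg_eq]
      set s := T' - t * R with hs
      have hsσ : σ s = s := by
        have e : t * (R - σ R) = T' - σ T' := by rw [ht, div_mul_cancel₀ _ hRσ]
        rw [hs, map_sub, map_mul, htσ]
        linear_combination e
      refine ⟨s • x1 + t • x2, by rw [cj_add, cj_smul, cj_smul, hsσ, htσ, Fr.c1, Fr.c2],
        by simp [Unit.add_right hf, Unit.smul_right hf, Fr.u1, Fr.u2], ?_⟩
      have hn1 := Fr.n1
      have e : c1 * f x1 x1 * (s + t * R) = T := by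
        rw [hs, sub_add_cancel, mul_div_cancel₀ _ (mul_ne_zero h1 hn1)]
      rw [← e, hR, hex]
      simp only [hf.add_left, hf.smul_left, Unit.add_right hf, Unit.smul_right hf, hsσ, htσ, Fr.u1,
        Fr.u2, Fr.o12, Fr.o21]
      field_simp
      ring
    · intro h0
      rw [hex, cj_add, cj_add, cj_smul, cj_smul, cj_smul, hu, Fr.c1, Fr.c2] at h0
      simp only [hf.add_left, Unit.add_right hf, hf.smul_left, Unit.smul_right hf, hf.involutive, huu,
        Fr.u1, Fr.u2, Fr.o1u, Fr.o2u, Fr.o12, Fr.o21] at h0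
      have e : f x1 x1 + ρ * ρ * f x2 x2 = 0 :=
        (mul_eq_zero.1 (show c1 * c1 * (f x1 x1 + ρ * ρ * f x2 x2) = 0 by
          linear_combination h0)).resolve_left (mul_ne_zero h1 h1)
      have e2 : ρ * (ρ - σ ρ) * f x2 x2 = 0 := by linear_combination e - hρn
      rcases mul_eq_zero.1 e2 with e3 | e3
      · rcases mul_eq_zero.1 e3 with e4 | e4
        · exact hρσ (by rw [e4, map_zero])
        · exact hρσ (sub_eq_zero.1 e4).symm
      · exact Fr.n2 e3

set_option maxHeartbeats 800000 in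
/-- An element of `M` taking a singular real vector to one orthogonal to another is real up to a
scalar. -/
theorem key_orth {g : GL ι F} (hg : g ∈ M) {r u : ι → F} (hr : cj σ r = r) (hu : cj σ u = u)
    (hr0 : r ≠ 0) (hu0 : u ≠ 0) (hrr : f r r = 0) (huu : f u u = 0)
    (horth : f ((g : Matrix ι ι F) *ᵥ r) u = 0) : Sub σ g := by
  have hf := H.O.hf
  have hgi := H.hMi hg
  have hgf : ∀ a b, f ((g : Matrix ι ι F) *ᵥ a) ((g : Matrix ι ι F) *ᵥ b) = f a b := fun a b => hgi a b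
  -- the real case
  have hline : ∀ {g : GL ι F}, g ∈ M → ∀ {r : ι → F}, cj σ r = r → r ≠ 0 → f r r = 0 →
      ∀ (k : F) (r1 : ι → F), cj σ r1 = r1 → f r1 r1 = 0 → (g : Matrix ι ι F) *ᵥ r = k • r1 →
      Sub σ g := by
    intro g hg r hr hr0 hrr k r1 h1 h11 he
    have h10 : r1 ≠ 0 := fun e => gl_mulVec_ne_zero g hr0 (by rw [he, e, smul_zero])
    obtain ⟨h, hh, hhr, e⟩ := exists_move H h1 hr h10 hr0 h11 hrr (map_one σ) one_ne_zero
    have hk := key_fix H hNT (mul_mem hh hg) hr hr0 hrr (l := k)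
      (by rw [gl_mulVec_mul, he, mulVec_smul, e, one_smul])
    have := (Sub.inv H hhr.sub).mul hk
    rwa [inv_mul_cancel_left] at this
  set v := (g : Matrix ι ι F) *ᵥ r with hv
  have hvv : f v v = 0 := by rw [hv, hgf, hrr]
  rcases trichotomy H hNT hu hu0 huu hvv horth with
    ⟨k, r1, h1, h11, he⟩ | ⟨a, α, ζ, ha, haa, hau, ha0, hli, hζ, he⟩ | ⟨honto, hcjv⟩
  · exact hline hg hr hr0 hrr k r1 h1 h11 he
  · exact (not_collinear H hNT hg hr hrr hr0 ha hu haa huu hau ha0 hli hζ he).elim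
  set v' := ((g⁻¹ : GL ι F) : Matrix ι ι F) *ᵥ u with hv'
  have hgv' : (g : Matrix ι ι F) *ᵥ v' = u := gl_mulVec_inv_mulVec g u
  have hv'v : f v' v' = 0 := by rw [← hgf, hgv', huu]
  have hv'r : f v' r = 0 := by rw [← hgf, hgv', ← hv, eq_zero_comm hf horth]
  rcases trichotomy H hNT hr hr0 hrr hv'v hv'r with
    ⟨k, r1, h1, h11, he⟩ | ⟨a, α, ζ, ha, haa, har, ha0, hli, hζ, he⟩ | ⟨honto', -⟩
  · have := Sub.inv H (hline (inv_mem hg) hu hu0 huu k r1 h1 h11 he)
    rwa [inv_inv] at this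
  · exact (not_collinear H hNT (inv_mem hg) hu huu hu0 ha hr haa hrr har ha0 hli hζ he).elim
  exfalso
  -- lift of the two-dimensional special linear group
  have hU : ∀ c : F, ∃ U ∈ M, (U : Matrix ι ι F) *ᵥ u = u ∧ (U : Matrix ι ι F) *ᵥ v = v + c • u := by
    intro c
    obtain ⟨x, hx, hux, hvx⟩ := honto (-c)
    have hel := el_real H.O hu (w := x) hx huu hux rfl
    refine ⟨_, H.hHM _ hel.1 hel.2, ?_, ?_⟩
    · rw [el_mulVec hf huu hux, huu, hux]; simp
    · rw [el_mulVec hf huu hux, horth, hvx]; simp [sub_eq_add_neg]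
  have hL : ∀ c : F, ∃ L ∈ M, (L : Matrix ι ι F) *ᵥ v = v ∧ (L : Matrix ι ι F) *ᵥ u = u + c • v := by
    intro c
    obtain ⟨y, hy, hry, hv'y⟩ := honto' (-c)
    have hel := el_real H.O hr (w := y) hy hrr hry rfl
    refine ⟨_, mul_mem (mul_mem hg (H.hHM _ hel.1 hel.2)) (inv_mem hg), ?_, ?_⟩
    · simp only [gl_mulVec_mul, hv, gl_inv_mulVec_mulVec]
      rw [el_mulVec hf hrr hry, hrr, hry]; simp
    · simp only [gl_mulVec_mul]
      rw [← hv', el_mulVec hf hrr hry, hv'r, hv'y, mulVec_add, mulVec_sub, mulVec_add, hgv']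
      simp [mulVec_smul, mulVec_neg, ← hv, sub_eq_add_neg]
  obtain ⟨ζ, hζ0, hζ3⟩ := exists_zeta H
  obtain ⟨U₁, hU₁, a1, b1⟩ := hU (-ζ⁻¹)
  obtain ⟨L₁, hL₁, c1, d1⟩ := hL (ζ - 1)
  obtain ⟨U₂, hU₂, a2, b2⟩ := hU 1
  obtain ⟨L₂, hL₂, c2, d2⟩ := hL (ζ⁻¹ - 1)
  set m := L₂ * U₂ * L₁ * U₁ with hm
  have hmM : m ∈ M := mul_mem (mul_mem (mul_mem hL₂ hU₂) hL₁) hU₁
  have hmu : (m : Matrix ι ι F) *ᵥ u = ζ • u := by
    simp only [hm, gl_mulVec_mul, a1, d1, mulVec_add, mulVec_smul, a2, b2, c2, d2]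
    match_scalars <;> field_simp <;> ring
  have hmv : (m : Matrix ι ι F) *ᵥ v = ζ⁻¹ • v := by
    simp only [hm, gl_mulVec_mul, b1, c1, d1, mulVec_add, mulVec_smul, a2, b2, c2, d2]
    match_scalars <;> field_simp <;> ring
  obtain ⟨l, hl0, hl⟩ := key_fix H hNT hmM hu hu0 huu hmu
  have hlu := hl u hu
  rw [hmu, smul_smul, cj_smul, hu] at hlu
  have hlζ : σ (l * ζ) = l * ζ := smul_left_injective F hu0 hlu
  have hG := Sub.commute H hl v
  rw [hmv, smul_smul, cj_smul] at hG
  have hmi := H.hMi hmM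
  have hkey := hmi v (cj σ v)
  have hmc : (m : Matrix ι ι F) *ᵥ cj σ v = (σ (l * ζ⁻¹) / l) • cj σ v := by
    apply smul_right_injective (ι → F) hl0
    simp only [hG, smul_smul, mul_div_cancel₀ _ hl0]
  change f ((m : Matrix ι ι F) *ᵥ v) ((m : Matrix ι ι F) *ᵥ cj σ v) = _ at hkey
  rw [hmv, hmc, hf.smul_left, Unit.smul_right hf, map_div₀, hf.involutive] at hkey
  have hσl : σ l ≠ 0 := fun e => hl0 (by simpa using congrArg σ.symm e)
  have e3 : ζ⁻¹ * (l * ζ⁻¹ / σ l) = 1 := mul_right_cancel₀ hcjv (by rw [one_mul]; linear_combination hkey)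
  rw [map_mul] at hlζ
  field_simp at e3
  -- `σ l σ ζ = l ζ` and `l = ζ² σ l`
  refine hζ3 (mul_left_cancel₀ hσl ?_)
  linear_combination hlζ + ζ * e3

end CfsgLib.ClassicalMax.UnitOrth4
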