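/-
Without transvections an overgroup would carry too many pairwise non-orthogonal isotropic points.
-/
import Cfsg.Agent.Lib.ClassicalMax.UnitOrthFour.Key
set_option autoImplicit false
set_option linter.unusedSectionVars false

namespace CfsgLib.ClassicalMax.UnitOrth4

open Matrix Cfsg.Geo CfsgLib.ClassicalMax CfsgLib.ClassicalMax.Unit

variable {ι : Type} [Fintype ι] [DecidableEq ι] {F : Type*} [Field F] [Fintype F] [DecidableEq F]
  {σ : F ≃+* F} {f : (ι → F) → (ι → F) → F} {M : Subgroup (GL ι F)}

/-- Pairwise non-orthogonal isotropic vectors number at most `q³ + q + 1`. -/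
lemma card_le_of_nonorth {u u' x1 x2 : ι → F} (O : OStd σ f) (Fr : Frame σ f u u' x1 x2) {α : Type*}
    [Finite α] (z : α → ι → F) (hz : ∀ i, f (z i) (z i) = 0)
    (hne : ∀ i j, i ≠ j → f (z i) (z j) ≠ 0) :
    Nat.card α ≤ Nat.card (fixedField σ) ^ 3 + Nat.card (fixedField σ) + 1 := by
  classical
  have hf := O.hf
  obtain ⟨τ, hτ0, hτ⟩ := exists_imag O
  obtain ⟨ζ, hζ⟩ := exists_norm_eq hf.ne_refl hf.involutive
    (s := -(f x1 x1) / f x2 x2) (by rw [map_div₀, map_neg, self_fixed hf, self_fixed hf])
  have hQ : f x1 x1 + ζ * σ ζ * f x2 x2 = 0 := by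
    rw [hζ, div_mul_cancel₀ _ Fr.n2]; ring
  set e := (2 * f x1 x1)⁻¹
  have he : e * (2 * f x1 x1) = 1 := inv_mul_cancel₀ (mul_ne_zero O.h2 Fr.n1)
  have heσ : σ e = e := by simp only [e, map_inv₀, map_mul, map_ofNat, self_fixed hf]
  clear_value e
  set q₁ := x1 + ζ • x2 with hq₁
  set q₂ := e • (x1 - ζ • x2) with hq₂
  set A : α → F := fun i => f (z i) u' with hA
  set B : α → F := fun i => f (z i) q₂ with hB
  set C : α → F := fun i => f (z i) u with hC
  set D : α → F := fun i => f (z i) q₁ with hD
  have hexp : ∀ w, w = f w u' • u + f w q₂ • q₁ + f w u • u' + f w q₁ • q₂ := by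
    intro w
    conv_lhs => rw [Fr.expand w]
    have h1 := Fr.n1
    have h2' := Fr.n2
    have hσζ : ζ * σ ζ = -(f x1 x1) / f x2 x2 := hζ
    simp only [hq₁, hq₂, sub_right hf, Unit.add_right hf, Unit.smul_right hf, heσ]
    match_scalars
    · ring
    · ring
    · field_simp
      linear_combination -(f w x1) * he
    · field_simp
      linear_combination -(f w x2) * he + 2 * e * f w x2 * hQ
  have hform : ∀ i j, f (z i) (z j) =
      A i * σ (C j) + C i * σ (A j) + B i * σ (D j) + D i * σ (B j) := by
    intro i j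
    conv_lhs => rw [hexp (z i), hexp (z j)]
    have e11 : f q₁ q₁ = 0 := by
      simp only [hq₁, hf.add_left, Unit.add_right hf, hf.smul_left, Unit.smul_right hf, Fr.o12, Fr.o21]
      linear_combination hQ
    have e22 : f q₂ q₂ = 0 := by
      simp only [hq₂, sub_left hf, sub_right hf, hf.smul_left, Unit.smul_right hf, Fr.o12, Fr.o21]
      linear_combination e * σ e * hQ
    have e12 : f q₁ q₂ = 1 := by
      simp only [hq₁, hq₂, hf.add_left, sub_right hf, hf.smul_left, Unit.smul_right hf, Fr.o12,
        Fr.o21, heσ]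
      linear_combination he - e * hQ
    have e21 : f q₂ q₁ = 1 := by rw [hf.herm, e12, map_one]
    have u1 : f u q₁ = 0 := by simp [hq₁, Unit.add_right hf, Unit.smul_right hf, Fr.u1, Fr.u2]
    have u2 : f u q₂ = 0 := by simp [hq₂, sub_right hf, Unit.smul_right hf, Fr.u1, Fr.u2]
    have v1 : f u' q₁ = 0 := by simp [hq₁, Unit.add_right hf, Unit.smul_right hf, Fr.v1, Fr.v2]
    have v2 : f u' q₂ = 0 := by simp [hq₂, sub_right hf, Unit.smul_right hf, Fr.v1, Fr.v2]
    clear_value q₁ q₂
    simp only [hA, hB, hC, hD, hf.add_left, Unit.add_right hf, hf.smul_left, Unit.smul_right hf,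
      Fr.uu, Fr.vv, Fr.uv, Fr.vu, u1, u2, v1, v2, eq_zero_comm hf u1, eq_zero_comm hf u2,
      eq_zero_comm hf v1, eq_zero_comm hf v2, e11, e22, e12, e21]
    ring
  clear_value A B C D
  have himag : ∀ c : F, c + σ c = 0 → c / τ ∈ fixedField σ := fun c hc => by
    rw [mem_fixedField, map_div₀, hτ, eq_neg_of_add_eq_zero_right hc, neg_div_neg_eq]
  have hσ0 : ∀ {c : F}, c ≠ 0 → σ c ≠ 0 := fun hc e => hc (by simpa using congrArg σ.symm e)
  have hzz : ∀ i, A i * σ (C i) + C i * σ (A i) + B i * σ (D i) + D i * σ (B i) = 0 := fun i =>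
    (hform i i).symm.trans (hz i)
  let code : α → (F × fixedField σ) ⊕ fixedField σ ⊕ Unit := fun i =>
    if hC' : C i = 0 then
      if hD' : D i = 0 then Sum.inr (Sum.inr ())
      else Sum.inr (Sum.inl ⟨(B i / D i) / τ, himag _ (by
        have h := hzz i
        rw [hC', map_zero, mul_zero, zero_mul, zero_add, zero_add] at h
        rw [map_div₀]
        field_simp [hσ0 hD']
        linear_combination h)⟩)
    else Sum.inl (D i / C i, ⟨((A i * σ (C i) + B i * σ (D i)) / (C i * σ (C i))) / τ, himag _ (by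
      have h := hzz i
      rw [map_div₀, map_add, map_mul, map_mul, map_mul, hf.involutive, hf.involutive,
        mul_comm (σ (C i)) (C i), ← add_div, div_eq_zero_iff]
      left
      linear_combination h)⟩)
  have hinj : Function.Injective code := by
    intro i j hij
    by_contra hne'
    refine hne i j hne' ?_
    rw [hform]
    simp only [code] at hij
    by_cases hi : C i = 0
    · by_cases hj : C j = 0
      · rw [dif_pos hi, dif_pos hj] at hij
        by_cases hi' : D i = 0
        · by_cases hj' : D j = 0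
          · simp [hi, hj, hi', hj']
          · rw [dif_pos hi', dif_neg hj'] at hij
            simp at hij
        · by_cases hj' : D j = 0
          · rw [dif_neg hi', dif_pos hj'] at hij
            simp at hij
          · rw [dif_neg hi', dif_neg hj'] at hij
            have hb : B i / D i = B j / D j :=
              (div_left_inj' hτ0).1 (congrArg Subtype.val (Sum.inl.inj (Sum.inr.inj hij)))
            have h := hzz j
            rw [hj, map_zero, mul_zero, zero_mul, zero_add, zero_add] at h
            rw [hi, hj, map_zero, mul_zero, zero_mul, zero_add, zero_add]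
            rw [div_eq_div_iff hi' hj'] at hb
            refine (mul_eq_zero.1 (show D j * (B i * σ (D j) + D i * σ (B j)) = 0 by
              linear_combination D i * h + σ (D j) * hb)).resolve_left hj'
      · rw [dif_pos hi, dif_neg hj] at hij
        by_cases hi' : D i = 0
        · rw [dif_pos hi'] at hij; simp at hij
        · rw [dif_neg hi'] at hij; simp at hij
    · by_cases hj : C j = 0
      · rw [dif_neg hi, dif_pos hj] at hij
        by_cases hj' : D j = 0
        · rw [dif_pos hj'] at hij; simp at hij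
        · rw [dif_neg hj'] at hij; simp at hij
      · rw [dif_neg hi, dif_neg hj] at hij
        obtain ⟨hd, ha⟩ := Prod.mk.inj (Sum.inl.inj hij)
        have ha' := (div_left_inj' hτ0).1 (congrArg Subtype.val ha)
        have h := hzz j
        set d := D i / C i
        have di : D i = d * C i := (div_mul_cancel₀ _ hi).symm
        have dj : D j = d * C j := by rw [hd, div_mul_cancel₀ _ hj]
        clear_value d
        rw [div_eq_div_iff (mul_ne_zero hi (hσ0 hi)) (mul_ne_zero hj (hσ0 hj)), di, dj, map_mul,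
          map_mul] at ha'
        rw [dj, map_mul] at h
        rw [di, dj, map_mul]
        refine (mul_eq_zero.1 (show (C j * σ (C i)) * (A i * σ (C j) + C i * σ (A j)
            + B i * (σ d * σ (C j)) + d * C i * σ (B j)) = 0 by
          linear_combination ha' + C i * σ (C i) * h)).resolve_left (mul_ne_zero hj (hσ0 hi))
  have := Nat.card_le_card_of_injective code hinj
  rw [Nat.card_sum, Nat.card_sum, Nat.card_prod, Nat.card_eq_fintype_card (α := F),
    (exists_card_eq hf.ne_refl hf.involutive).1, Nat.card_unique (α := Unit)] at this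
  exact this.trans (le_of_eq (by ring))

variable (H : OH σ f M) (hNT : NT H)
include H hNT

set_option maxHeartbeats 800000 in
theorem real_of_mem {g₀ : GL ι F} (hg₀ : g₀ ∈ M) : Sub σ g₀ := by
  classical
  by_contra hg
  have hf := H.O.hf
  have h2 := H.O.h2
  obtain ⟨u, hu, hu0, huu⟩ := exists_singular H.O
  obtain ⟨u', x1, x2, Fr⟩ := exists_frame H.O hu hu0 huu
  let K := fixedField σ
  let X : K × K → ι → F := fun p => (p.1 : F) • x1 + (p.2 : F) • x2
  have cX : ∀ p, cj σ (X p) = X p := fun p => by
    simp only [X, cj_add, cj_smul, Fr.c1, Fr.c2, mem_fixedField.1 p.1.2, mem_fixedField.1 p.2.2]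
  have uX : ∀ p, f u (X p) = 0 := fun p => by
    simp [X, Unit.add_right hf, Unit.smul_right hf, Fr.u1, Fr.u2]
  let E : K × K → GL ι F := fun p => el hf u (X p) (-(f (X p) (X p)) / 2)
  have hEH : ∀ p, E p ∈ M ∧ IsRealMap σ (E p) := fun p =>
    have h := el_real H.O hu (cX p) huu (uX p) rfl
    ⟨H.hHM _ h.1 h.2, h.2⟩
  have hEdiv : ∀ p p' : K × K, (E p)⁻¹ * E p' = E (p' - p) := by
    intro p p'
    have hX : -X p + X p' = X (p' - p) := by
      simp only [X, Prod.fst_sub, Prod.snd_sub, AddSubgroupClass.coe_sub]; module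
    simp only [E]
    rw [el_inv hf huu (uX p), el_mul hf huu (by
      rw [← neg_one_smul F (X p), Unit.smul_right hf, uX, mul_zero]) (uX p'), hX]
    congr 1
    have hs := real_symm H.O (cX p) (cX p')
    rw [← hX]
    simp only [← neg_one_smul F (X p), hf.add_left, hf.smul_left, Unit.add_right hf,
      Unit.smul_right hf, map_neg, map_one, hs]
    field_simp
    ring
  -- the free action
  have hfree : ∀ p : K × K, p ≠ 0 → ∀ g ∈ M, ¬ Sub σ g → ¬ Sub σ (g⁻¹ * E p * g) := by
    intro p hp g hgM hgn hsub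
    obtain ⟨l, hl0, hl⟩ := hsub
    set x := X p with hx
    have hgi := H.hMi hgM
    have hgf : ∀ a b, f ((g : Matrix ι ι F) *ᵥ a) ((g : Matrix ι ι F) *ᵥ b) = f a b := fun a b => hgi a b
    -- the scalar is real
    have hreal : IsRealMap σ (g⁻¹ * E p * g) := by
      set h := g⁻¹ * E p * g
      have hent : ∀ i j : ι, σ (l * (h : Matrix ι ι F) i j) = l * (h : Matrix ι ι F) i j := fun i j => by
        have := congrFun (hl (Pi.single j 1) (cj_single j)) i
        rw [Matrix.mulVec_single_one] at this
        exact this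
      have ht : (h : Matrix ι ι F).trace = 4 := by
        rw [show h = g⁻¹ * E p * g from rfl, Units.val_mul, Units.val_mul, Matrix.trace_mul_cycle,
          ← Units.val_mul, mul_inv_cancel, Units.val_one, one_mul]
        simp only [E]
        rw [trace_el hf huu (uX p), H.O.hn]
        norm_num
      have h4 : (4 : F) ≠ 0 := by rw [show (4 : F) = 2 * 2 by norm_num]; exact mul_ne_zero h2 h2
      have hl' : σ l = l := by
        have e : σ (l * 4) = l * 4 := by
          rw [← ht, Matrix.trace, Finset.mul_sum, map_sum]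
          exact Finset.sum_congr rfl fun i _ => hent i i
        rw [map_mul, map_ofNat] at e
        exact mul_right_cancel₀ h4 e
      intro z hz
      have := hl z hz
      rw [cj_smul, hl'] at this
      exact smul_right_injective (ι → F) hl0 this
    -- a real vector with image at `u`
    obtain ⟨z₀, hz₀, hz₀u⟩ : ∃ z₀, cj σ z₀ = z₀ ∧ f ((g : Matrix ι ι F) *ᵥ z₀) u ≠ 0 := by
      by_contra hcon
      push Not at hcon
      refine gl_mulVec_ne_zero g⁻¹ hu0 (eq_zero_of_real H.O fun a ha => ?_)
      refine eq_zero_comm hf ?_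
      rw [← hgf, gl_mulVec_inv_mulVec]
      exact hcon a ha
    set w := (g : Matrix ι ι F) *ᵥ z₀ with hw
    set c := -(f x x) / 2 with hc
    have hEw : ∀ w, (E p : Matrix ι ι F) *ᵥ w =
        w + f w u • x - f w x • u + (c * f w u) • u := el_mulVec hf huu (uX p) c
    have hxu : f x u = 0 := eq_zero_comm hf (uX p)
    have hux : f u x = 0 := uX p
    have hdiff : ∀ z, cj σ z = z → cj σ
        (((g⁻¹ * E p * g : GL ι F) : Matrix ι ι F) *ᵥ z - z) =
          ((g⁻¹ * E p * g : GL ι F) : Matrix ι ι F) *ᵥ z - z := fun z hz => by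
      rw [cj_sub, hreal z hz, hz]
    have hgd : ∀ z, (g : Matrix ι ι F) *ᵥ (((g⁻¹ * E p * g : GL ι F) : Matrix ι ι F) *ᵥ z - z)
        = (E p : Matrix ι ι F) *ᵥ ((g : Matrix ι ι F) *ᵥ z) - (g : Matrix ι ι F) *ᵥ z := fun z => by
      simp only [mulVec_sub, gl_mulVec_mul, gl_mulVec_inv_mulVec]
    set y1 := ((g⁻¹ * E p * g : GL ι F) : Matrix ι ι F) *ᵥ z₀ - z₀ with hy1
    have cy1 : cj σ y1 = y1 := hdiff z₀ hz₀
    have gy1 : (g : Matrix ι ι F) *ᵥ y1 = f w u • x + (c * f w u - f w x) • u := by
      rw [hgd, ← hw, hEw]; module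
    -- a singular real vector with image orthogonal to `u`
    have hfin : ∀ y, cj σ y = y → y ≠ 0 →
        f ((g : Matrix ι ι F) *ᵥ y) ((g : Matrix ι ι F) *ᵥ y) = 0 →
        f ((g : Matrix ι ι F) *ᵥ y) u = 0 → False := fun y hy hy0 hyy hyu =>
      hgn (key_orth H hNT hgM hy hu hy0 hu0 ((hgi y y).symm.trans hyy) huu hyu)
    by_cases hxx : f x x = 0
    · refine hfin y1 cy1 (fun e => ?_) ?_ ?_
      · rw [e, mulVec_zero] at gy1
        have h1 := congrArg (fun v => f v x1) gy1
        have h2' := congrArg (fun v => f v x2) gy1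
        simp only [zero_left hf, hf.add_left, hf.smul_left, Fr.u1, Fr.u2, hx, X, Fr.o12, Fr.o21,
          mul_zero, add_zero, zero_add] at h1 h2'
        have a1 : (p.1 : F) = 0 := by simpa [hz₀u, Fr.n1] using h1.symm
        have a2 : (p.2 : F) = 0 := by simpa [hz₀u, Fr.n2] using h2'.symm
        exact hp (Prod.ext (Subtype.ext a1) (Subtype.ext a2))
      · simp [gy1, hf.add_left, Unit.add_right hf, hf.smul_left, Unit.smul_right hf, hxx, huu, hxu,
          eq_zero_comm hf hxu]
      · simp [gy1, hf.add_left, hf.smul_left, huu, hxu]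
    · set y2 := ((g⁻¹ * E p * g : GL ι F) : Matrix ι ι F) *ᵥ y1 - y1 with hy2
      have gy2 : (g : Matrix ι ι F) *ᵥ y2 = (-(f w u * f x x)) • u := by
        rw [hgd, gy1, hEw]
        simp only [hf.add_left, hf.smul_left, hxu, huu, hux]
        module
      refine hfin y2 (hdiff y1 cy1) (fun e => ?_) ?_ ?_
      · rw [e, mulVec_zero] at gy2
        rcases smul_eq_zero.1 gy2.symm with h | h
        · exact mul_ne_zero hz₀u hxx (neg_eq_zero.1 h)
        · exact hu0 h
      · rw [gy2, hf.smul_left, Unit.smul_right hf, huu, mul_zero, mul_zero]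
      · rw [gy2, hf.smul_left, huu, mul_zero]
  -- representatives
  let m : Option (K × K) → GL ι F := fun o => o.elim 1 fun p => E p * g₀
  have hmM : ∀ o, m o ∈ M := by
    rintro (_ | p)
    exacts [M.one_mem, mul_mem (hEH p).1 hg₀]
  have hm : ∀ o o', o ≠ o' → ¬ Sub σ ((m o)⁻¹ * m o') := by
    have hEg : ∀ p, ¬ Sub σ (E p * g₀) := fun p h => by
      have := (Sub.inv H (hEH p).2.sub).mul h
      rw [inv_mul_cancel_left] at this
      exact hg this
    rintro (_ | p) (_ | p') hne h
    · exact hne rfl
    · simp [m] at h; exact hEg p' h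
    · simp only [m, Option.elim, mul_one] at h
      have := Sub.inv H h
      rw [inv_inv] at this
      exact hEg p this
    · simp only [m, Option.elim] at h
      refine hfree (p' - p) (sub_ne_zero.2 fun e => hne (by rw [e])) g₀ hg₀ hg ?_
      rw [← hEdiv]
      simpa [mul_assoc] using h
  -- real points
  let pt : Option K → ι → F := fun o =>
    o.elim u fun t => u' + (t : F) • x1 - ((t : F) * t * f x1 x1 / 2) • u
  have hpt : ∀ o, cj σ (pt o) = pt o ∧ f (pt o) (pt o) = 0 ∧ pt o ≠ 0 := by
    rintro (_ | t)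
    · exact ⟨hu, huu, hu0⟩
    · have ht := mem_fixedField.1 t.2
      simp only [pt, Option.elim]
      refine ⟨?_, ?_, fun e => ?_⟩
      · rw [cj_sub, cj_add, cj_smul, cj_smul, map_div₀, map_mul, map_mul, map_ofNat, self_fixed hf,
          ht, Fr.cu', Fr.c1, hu]
      · simp only [sub_left hf, sub_right hf, hf.add_left, Unit.add_right hf, hf.smul_left,
          Unit.smul_right hf, map_div₀, map_mul, map_ofNat, self_fixed hf, ht, huu, Fr.vv, Fr.uv,
          Fr.vu, Fr.u1, Fr.v1, Fr.o1u, Fr.o1v]
        field_simp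
        ring
      · have := congrArg (fun v => f v u) e
        simp [sub_left hf, hf.add_left, hf.smul_left, huu, Fr.vu, Fr.o1u, zero_left hf] at this
  have hptne : ∀ o o', o ≠ o' → f (pt o) (pt o') ≠ 0 := by
    rintro (_ | t) (_ | s) hne
    · exact absurd rfl hne
    · simp [pt, sub_right hf, Unit.add_right hf, Unit.smul_right hf, huu, Fr.uv, Fr.u1]
    · simp [pt, sub_left hf, hf.add_left, hf.smul_left, huu, Fr.vu, Fr.o1u]
    · have ht := mem_fixedField.1 t.2
      have hs := mem_fixedField.1 s.2
      have e : f (pt (some t)) (pt (some s)) = -(((t : F) - s) * ((t : F) - s) * f x1 x1) / 2 := by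
        simp only [pt, Option.elim, sub_left hf, sub_right hf, hf.add_left, Unit.add_right hf,
          hf.smul_left, Unit.smul_right hf, map_div₀, map_mul, map_ofNat, self_fixed hf, hs, huu,
          Fr.vv, Fr.uv, Fr.vu, Fr.u1, Fr.v1, Fr.o1u, Fr.o1v]
        field_simp
        ring
      rw [e]
      have hts : (t : F) - s ≠ 0 := sub_ne_zero.2 fun h => hne (by rw [Subtype.ext h])
      exact div_ne_zero (neg_ne_zero.2 (mul_ne_zero (mul_ne_zero hts hts) Fr.n1)) h2
  have hiso : ∀ o a b, f ((m o : Matrix ι ι F) *ᵥ a) ((m o : Matrix ι ι F) *ᵥ b) = f a b :=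
    fun o a b => H.hMi (hmM o) a b
  let z : Option K × Option (K × K) → ι → F := fun a => (m a.2 : Matrix ι ι F) *ᵥ pt a.1
  have hcard := card_le_of_nonorth H.O Fr z (fun a => (H.hMi (hmM a.2) _ _).trans (hpt a.1).2.1) ?_
  · rw [Nat.card_prod, Finite.card_option, Finite.card_option, Nat.card_prod] at hcard
    have hq := H.O.hq
    change 5 ≤ Nat.card K at hq
    change _ ≤ Nat.card K ^ 3 + Nat.card K + 1 at hcard
    nlinarith
  rintro ⟨t, o⟩ ⟨t', o'⟩ hne h
  simp only [z] at h
  by_cases hoo : o = o'
  · subst hoo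
    rw [hiso] at h
    exact hptne t t' (fun e => hne (by rw [e])) h
  · have hk := mul_mem (inv_mem (hmM o')) (hmM o)
    refine hm o' o (Ne.symm hoo) (key_orth H hNT hk (hpt t).1 (hpt t').1 (hpt t).2.2 (hpt t').2.2
      (hpt t).2.1 (hpt t').2.1 ?_)
    rw [← hiso o', gl_mulVec_mul, gl_mulVec_inv_mulVec]
    exact h

end CfsgLib.ClassicalMax.UnitOrth4
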