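/-
Orthogonal subfield groups are maximal in the four-dimensional special unitary group.
-/
import Cfsg.Agent.Lib.ClassicalMax.UnitOrthFour.Count
import Cfsg.Agent.Lib.ClassicalMax.UnitFourDecomp.Gen
set_option autoImplicit false
set_option linter.unusedSectionVars false

namespace CfsgLib.ClassicalMax.UnitOrth4

open Matrix Cfsg.Geo CfsgLib.ClassicalMax CfsgLib.ClassicalMax.Unit
open CfsgLib.ClassicalMax.LinSub

variable {ι : Type} [Fintype ι] [DecidableEq ι] {F : Type*} [Field F] [Fintype F]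
  {σ : F ≃+* F} {f : (ι → F) → (ι → F) → F}

theorem orth_maximal_one [DecidableEq F] (O : OStd σ f) (F₀ : Subfield F)
    (hfix : ∀ a, a ∈ F₀ ↔ σ a = a) :
    IsMaximalIn (isoOf f ⊓ specialLinear ι F)
      (subfieldSubgroup F₀ (1 : GL ι F) ⊓ (isoOf f ⊓ specialLinear ι F)) := by
  have hf := O.hf
  have hcv : ∀ x : ι → F₀, cj σ (cv x) = cv x := fun x => funext fun i => (hfix _).1 (x i).2
  have hex : ∀ z : ι → F, cj σ z = z → ∃ x : ι → F₀, cv x = z := fun z hz =>
    ⟨fun i => ⟨z i, (hfix _).2 (congrFun hz i)⟩, rfl⟩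
  have hsub : ∀ g : GL ι F, g ∈ subfieldSubgroup F₀ (1 : GL ι F) ↔ Sub σ g := by
    intro g
    constructor
    · intro hg
      obtain ⟨c, A, hA⟩ := exists_rat_matrix hg
      have hc : c ≠ 0 := by
        intro e
        obtain ⟨u, hu, hu0, -⟩ := exists_singular O
        obtain ⟨x, rfl⟩ := hex u hu
        exact gl_mulVec_ne_zero g hu0 (by rw [hA, e, zero_smul])
      refine ⟨c⁻¹, inv_ne_zero hc, fun z hz => ?_⟩
      obtain ⟨x, rfl⟩ := hex z hz
      rw [hA, smul_smul, inv_mul_cancel₀ hc, one_smul]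
      exact hcv _
    · rintro ⟨l, hl0, hl⟩
      refine mem_sub_one_iff.2 fun x => ?_
      obtain ⟨r, hr⟩ := hex _ (hl (cv x) (hcv x))
      exact ⟨l⁻¹, r, by rw [hr, smul_smul, inv_mul_cancel₀ hl0, one_smul]⟩
  refine CfsgLib.ClassicalMax.isMaximalIn_of inf_le_right ?_ ?_
  · obtain ⟨u, hu, hu0, huu⟩ := exists_singular O
    obtain ⟨u', x1, x2, Fr⟩ := exists_frame O hu hu0 huu
    obtain ⟨τ, hτ0, hτ⟩ := exists_imag O
    refine ⟨uTv hf u τ, ⟨uTv_mem_isoOf hf huu hτ, uTv_mem_sl hf _ _⟩, fun h => ?_⟩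
    obtain ⟨l, hl0, hl⟩ := (hsub _).1 h.1
    have h1 := hl u hu
    rw [uTv_mulVec hf huu, huu, mul_zero, zero_smul, add_zero, cj_smul, hu] at h1
    have hlσ : σ l = l := smul_left_injective F hu0 h1
    have h2 := hl u' Fr.cu'
    rw [uTv_mulVec hf huu, Fr.vu, mul_one, cj_smul, hlσ, cj_add, cj_smul, hτ, hu, Fr.cu'] at h2
    have h3 := add_left_cancel (smul_right_injective (ι → F) hl0 h2)
    have h4 : -τ = τ := smul_left_injective F hu0 h3
    exact mul_ne_zero O.h2 hτ0 (by linear_combination (-1 : F) * h4)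
  intro M hHM hMK g hgM hgH
  have H : OH σ f M := ⟨O, hMK.trans inf_le_left, fun k hk hreal =>
    hHM ⟨(hsub _).2 hreal.sub, hk⟩⟩
  by_cases hNT : NT H
  · exact absurd ⟨(hsub _).2 (real_of_mem H hNT hgM), hMK hgM⟩ hgH
  unfold NT at hNT
  push Not at hNT
  obtain ⟨r, hr, hrr, hr0, c, hc, hc0⟩ := hNT
  have hcσ : σ c = -c := by
    obtain ⟨r', x1, x2, Fr⟩ := exists_frame O hr hr0 hrr
    have h := (hMK hc).1 r' r'
    change f ((uTv hf r c : Matrix ι ι F) *ᵥ r') ((uTv hf r c : Matrix ι ι F) *ᵥ r') = f r' r' at h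
    rw [uTv_mulVec hf hrr, hf.add_left, Unit.add_right hf, Unit.add_right hf, hf.smul_left,
      hf.smul_left, Unit.smul_right hf, Unit.smul_right hf, Fr.vv, Fr.uv, Fr.vu, hrr, map_mul,
      map_one] at h
    linear_combination h
  exact iso_inf_sl_le_four hf O.hn.ge fun w c' hw hc' =>
    (uSet_all H (fun _ hs hss => uSet_real H hr hr0 hrr hcσ hc0 hc hs hss) hw).2 c' hc'

theorem orth_subfield_maximal_four (hf : IsUnitaryForm σ f) (h2 : (2 : F) ≠ 0)
    (hn : Fintype.card ι = 4) (hq : 5 ≤ Nat.card (fixedField σ)) (F₀ : Subfield F)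
    (hfix : ∀ a, a ∈ F₀ ↔ σ a = a) (P : GL ι F) (hP : IsFormRationalStructure f F₀ 1 P) :
    IsMaximalIn (isoOf f ⊓ specialLinear ι F)
      (subfieldSubgroup F₀ P ⊓ (isoOf f ⊓ specialLinear ι F)) := by
  classical
  set f' : (ι → F) → (ι → F) → F :=
    fun x y => f ((P : Matrix ι ι F) *ᵥ x) ((P : Matrix ι ι F) *ᵥ y)
  have hf' : IsUnitaryForm σ f' := pullback hf P
  have hreal : ∀ i j : ι, σ (f' (Pi.single i 1) (Pi.single j 1)) = f' (Pi.single i 1) (Pi.single j 1) := by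
    intro i j
    have hmem : ∀ i k : ι, (Pi.single i (1 : F) : ι → F) k ∈ F₀ := fun i k => by
      by_cases h : k = i
      · subst h; simp
      · simp [h]
    have := hP _ _ (hmem i) (hmem j)
    rw [one_mul] at this
    exact (hfix _).1 this
  have h := orth_maximal_one ⟨hf', h2, hn, hreal, hq⟩ F₀ hfix
  have hinj : Function.Injective (MulAut.conj P).toMonoidHom := (MulAut.conj P).injective
  have h1 : subfieldSubgroup F₀ P
      = (subfieldSubgroup F₀ (1 : GL ι F)).map (MulAut.conj P).toMonoidHom := by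
    rw [subfieldSubgroup, subfieldSubgroup, Subgroup.map_map]
    congr 1
    ext a
    simp
  have h2 : (isoOf f' ⊓ specialLinear ι F).map (MulAut.conj P).toMonoidHom
      = isoOf f ⊓ specialLinear ι F := by
    ext k
    constructor
    · rintro ⟨a, ⟨ha, hd⟩, rfl⟩
      refine ⟨fun x y => ?_, MonoidHom.mem_ker.2 ?_⟩
      · change f (((P * a * P⁻¹ : GL ι F) : Matrix ι ι F) *ᵥ x)
          (((P * a * P⁻¹ : GL ι F) : Matrix ι ι F) *ᵥ y) = f x y
        simp only [gl_mulVec_mul]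
        have := ha (((P⁻¹ : GL ι F) : Matrix ι ι F) *ᵥ x) (((P⁻¹ : GL ι F) : Matrix ι ι F) *ᵥ y)
        simpa [f'] using this
      · rw [MulEquiv.toMonoidHom_eq_coe, MonoidHom.coe_coe, MulAut.conj_apply, map_mul, map_mul,
          MonoidHom.mem_ker.1 hd, mul_one, ← map_mul, mul_inv_cancel, map_one]
    · rintro ⟨hk, hd⟩
      refine ⟨P⁻¹ * k * P, ⟨fun x y => ?_, MonoidHom.mem_ker.2 ?_⟩, by simp [mul_assoc]⟩
      · change f' (((P⁻¹ * k * P : GL ι F) : Matrix ι ι F) *ᵥ x)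
          (((P⁻¹ * k * P : GL ι F) : Matrix ι ι F) *ᵥ y) = f' x y
        simp only [f', gl_mulVec_mul, gl_mulVec_inv_mulVec]
        exact hk _ _
      · rw [map_mul, map_mul, MonoidHom.mem_ker.1 hd, mul_one, ← map_mul, inv_mul_cancel, map_one]
  rw [h1, ← h2, ← Subgroup.map_inf _ _ _ hinj]
  refine ⟨(Subgroup.map_lt_map_iff_of_injective hinj).2 h.1, fun M hl hu => ?_⟩
  have hM : M = (M.comap (MulAut.conj P).toMonoidHom).map (MulAut.conj P).toMonoidHom :=
    (Subgroup.map_comap_eq_self_of_surjective (MulAut.conj P).surjective _).symm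
  rw [hM] at hl hu ⊢
  rw [Subgroup.map_le_map_iff_of_injective hinj] at hl hu
  rcases h.2 _ hl hu with e | e
  · left; rw [e]
  · right; rw [e]

/-- The orthogonal subfield groups are maximal in `SU₄(q)` for odd `q ≥ 5`. -/
theorem su_four_subfield_orth {F : Type*} [Field F] [Fintype F] {q : ℕ}
    (hF : Fintype.card F = q ^ 2) (hodd : Odd q) (hq : 5 ≤ q) (F₀ : Subfield F)
    (P : Matrix.GeneralLinearGroup (Fin 4) F) (hcard : Fintype.card F = Nat.card F₀ ^ 2)
    (hP : IsFormRationalStructure (Cfsg.hermForm 4 F q) F₀ 1 P) :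
    IsMaximalIn (Cfsg.GU 4 F q ⊓ specialLinear (Fin 4) F)
      (subfieldSubgroup F₀ P ⊓ (Cfsg.GU 4 F q ⊓ specialLinear (Fin 4) F)) := by
  classical
  obtain ⟨σ, hσ, -, hne⟩ := exists_powEquiv hF
  have hf := isUnitaryForm_hermForm hF 4 hσ hne
  rw [GU_eq_isoOf]
  have hq₀ : Nat.card F₀ = q := Nat.pow_left_injective two_ne_zero (hcard.symm.trans hF)
  haveI := Fintype.ofFinite F₀
  have hF₀ : ∀ a ∈ F₀, σ a = a := fun a ha => by
    have h := congrArg Subtype.val (FiniteField.pow_card (⟨a, ha⟩ : F₀))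
    rw [← Nat.card_eq_fintype_card, hq₀] at h
    rw [hσ]
    simpa using h
  have hfq : Nat.card (fixedField σ) = q := Nat.pow_left_injective two_ne_zero
    ((exists_card_eq hf.ne_refl hf.involutive).1.symm.trans hF)
  have h2 : (2 : F) ≠ 0 := by
    intro h
    haveI : CharP F 2 := CharTwo.of_one_ne_zero_of_two_eq_zero one_ne_zero h
    obtain ⟨n, -, hn⟩ := FiniteField.card F 2
    have he : Even (q ^ 2) := by
      rw [← hF, hn]; exact Nat.even_pow.2 ⟨even_two, n.ne_zero⟩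
    exact (Nat.not_even_iff_odd.2 hodd) (Nat.even_pow.1 he).1
  refine orth_subfield_maximal_four hf h2 (by simp) (hfq ▸ hq) F₀ (fun a => ⟨hF₀ a, fun ha => ?_⟩) P hP
  have hle : (F₀ : Set F) ⊆ fixedField σ := hF₀
  have heq := Set.eq_of_subset_of_ncard_le hle (by
    rw [← Nat.card_coe_set_eq, ← Nat.card_coe_set_eq]
    exact le_of_eq (hfq.trans hq₀.symm)) (Set.toFinite _)
  exact (Set.ext_iff.1 heq a).2 ha

end CfsgLib.ClassicalMax.UnitOrth4
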